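import Mathlib
import Cfsg.Agent.EqLemmas

/-!
# Labels for a copy of the symmetric group of degree six

* `Six.outer`: the exceptional automorphism, by the six totals
* `Six.exists_label`: a copy of `S6` can be labelled at a frame `(a, b, B, C, T)`
-/

set_option autoImplicit false
set_option maxRecDepth 100000
set_option synthInstance.maxSize 4000
set_option synthInstance.maxHeartbeats 200000

namespace Cfsg.Agent.PSpThreeReal.Six

open Equiv

/-- The six totals, each of five synthemes. -/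
def total : Fin 6 → Fin 5 → Fin 6 → Fin 6 :=
  ![![![1, 0, 3, 2, 5, 4], ![2, 4, 0, 5, 1, 3], ![3, 5, 4, 0, 2, 1], ![4, 3, 5, 1, 0, 2], ![5, 2, 1, 4, 3, 0]],
    ![![1, 0, 3, 2, 5, 4], ![2, 5, 0, 4, 3, 1], ![3, 4, 5, 0, 1, 2], ![4, 2, 1, 5, 0, 3], ![5, 3, 4, 1, 2, 0]],
    ![![1, 0, 4, 5, 2, 3], ![2, 3, 0, 1, 5, 4], ![3, 4, 5, 0, 1, 2], ![4, 5, 3, 2, 0, 1], ![5, 2, 1, 4, 3, 0]],
    ![![1, 0, 4, 5, 2, 3], ![2, 5, 0, 4, 3, 1], ![3, 2, 1, 0, 5, 4], ![4, 3, 5, 1, 0, 2], ![5, 4, 3, 2, 1, 0]],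
    ![![1, 0, 5, 4, 3, 2], ![2, 3, 0, 1, 5, 4], ![3, 5, 4, 0, 2, 1], ![4, 2, 1, 5, 0, 3], ![5, 4, 3, 2, 1, 0]],
    ![![1, 0, 5, 4, 3, 2], ![2, 4, 0, 5, 1, 3], ![3, 2, 1, 0, 5, 4], ![4, 5, 3, 2, 0, 1], ![5, 3, 4, 1, 2, 0]]]

/-- `σ` carries the total `k` to the total `k'`. -/
def Rel (σ : Perm (Fin 6)) (k k' : Fin 6) : Prop :=
  ∀ i : Fin 5, ∃ i' : Fin 5, ∀ x, σ (total k i x) = total k' i' (σ x)

instance instDecidableRel (σ : Perm (Fin 6)) (k k' : Fin 6) : Decidable (Rel σ k k') := by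
  unfold Rel; infer_instance

theorem rel_swap : ∀ a b : Fin 6, ∀ k, ∃ k', Rel (swap a b) k k' := by decide +kernel

theorem rel_unique : ∀ k k' : Fin 6, (∀ j, ∃ j', ∀ x, total k j x = total k' j' x) →
    k = k' := by decide +kernel

theorem rel_kernel : ∀ σ : Perm (Fin 6), (∀ k, Rel σ k k) → σ = 1 := by decide +kernel

theorem rel_one (k : Fin 6) : Rel 1 k k := fun i => ⟨i, fun _ => rfl⟩

theorem rel_mul {σ τ : Perm (Fin 6)} {k k' k'' : Fin 6} (h : Rel τ k k') (h' : Rel σ k' k'') :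
    Rel (σ * τ) k k'' := fun i => by
  obtain ⟨i', hi'⟩ := h i
  obtain ⟨i'', hi''⟩ := h' i'
  exact ⟨i'', fun x => by rw [Perm.mul_apply, hi', hi'']; rfl⟩

theorem rel_exists (σ : Perm (Fin 6)) : ∀ k, ∃ k', Rel σ k k' := by
  induction σ using Perm.swap_induction_on with
  | one => exact fun k => ⟨k, rel_one k⟩
  | swap_mul f a b _ ih =>
    intro k
    obtain ⟨k', hk'⟩ := ih k
    obtain ⟨k'', hk''⟩ := rel_swap a b k'
    exact ⟨k'', rel_mul hk' hk''⟩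

theorem rel_right {σ : Perm (Fin 6)} {k k' k'' : Fin 6} (h : Rel σ k k') (h' : Rel σ k k'') :
    k' = k'' := by
  have hle : ∀ (j : Fin 5), ∃ j', ∀ x, total k' j x = total k'' j' x := by
    intro j
    choose f hf using h
    have hfi : Function.Injective f := fun i i' e => by
      have key : ∀ k i i', (∀ x, total k i x = total k i' x) → i = i' := by decide +kernel
      exact key k i i' fun x => σ.injective (by rw [hf, hf, e])
    obtain ⟨i, rfl⟩ := (Finite.injective_iff_surjective.1 hfi) j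
    obtain ⟨j', hj'⟩ := h' i
    exact ⟨j', fun x => by
      obtain ⟨y, rfl⟩ := σ.surjective x
      rw [← hf, ← hj']⟩
  exact rel_unique k' k'' hle

/-- The exceptional automorphism. -/
noncomputable def outer : Perm (Fin 6) ≃* Perm (Fin 6) := by
  choose f hf using rel_exists
  have hinv : ∀ σ k, f σ⁻¹ (f σ k) = k := fun σ k => rel_right (rel_mul (hf σ k) (hf σ⁻¹ _))
    (by rw [inv_mul_cancel]; exact rel_one k)
  let g : Perm (Fin 6) →* Perm (Fin 6) := MonoidHom.mk'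
    (fun σ => ⟨f σ, f σ⁻¹, hinv σ, fun k => by simpa using hinv σ⁻¹ k⟩)
    (fun σ τ => Equiv.ext fun k => rel_right (hf (σ * τ) k) (rel_mul (hf τ k) (hf σ _)))
  refine MulEquiv.ofBijective g (Finite.injective_iff_bijective.1 ((injective_iff_map_eq_one g).2 fun σ h => ?_))
  refine rel_kernel σ fun k => ?_
  have h1 : f σ k = k := congrArg (fun e : Perm (Fin 6) => e k) h
  have h2 := hf σ k
  rwa [h1] at h2

theorem rel_outer (σ : Perm (Fin 6)) (k : Fin 6) : Rel σ k (outer σ k) :=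
  (rel_exists σ k).choose_spec

/-- `(012)`. -/
def c012 : Perm (Fin 6) := swap 0 1 * swap 1 2
/-- `(345)`. -/
def c345 : Perm (Fin 6) := swap 3 4 * swap 4 5
/-- `(03)(14)(25)`. -/
def flip6 : Perm (Fin 6) := swap 0 3 * swap 1 4 * swap 2 5

theorem step_a : ∀ a : Perm (Fin 6), a * (a * a) = 1 → a ≠ 1 →
    ∃ σ, σ * a * σ⁻¹ = c012 ∨ σ * a * σ⁻¹ = c012 * c345 := by decide +kernel

theorem outer_double : ∃ σ, σ * outer (c012 * c345) * σ⁻¹ = c012 := by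
  have key : (∀ k, Rel (c012 * c345) k ((swap 0 4 * swap 4 3 : Perm (Fin 6)) k)) ∧
      ∃ σ, σ * (swap 0 4 * swap 4 3) * σ⁻¹ = c012 := by decide +kernel
  have e : outer (c012 * c345) = swap 0 4 * swap 4 3 :=
    Equiv.ext fun k => rel_right (rel_outer _ k) (key.1 k)
  rw [e]
  exact key.2

theorem step_b : ∀ b : Perm (Fin 6), b * c012 = c012 * b → b * (b * b) = 1 → b ≠ 1 → b ≠ c012 →
    b ≠ c012 * c012 → ∀ T : Perm (Fin 6), T * c012 = b * T →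
    ∃ σ, σ * c012 = c012 * σ ∧ σ * b * σ⁻¹ = c345 := by decide +kernel

theorem step_B : ∀ B : Perm (Fin 6), B * B = 1 → B * c012 = c012⁻¹ * B → B * c345 = c345 * B →
    ∃ σ, σ * c012 = c012 * σ ∧ σ * c345 = c345 * σ ∧ σ * B * σ⁻¹ = swap 1 2 := by decide +kernel

theorem step_C : ∀ C : Perm (Fin 6), C * C = 1 → C * c345 = c345⁻¹ * C → C * c012 = c012 * C →
    ∃ σ, σ * c012 = c012 * σ ∧ σ * c345 = c345 * σ ∧ σ * swap 1 2 = swap 1 2 * σ ∧
      σ * C * σ⁻¹ = swap 4 5 := by decide +kernel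

theorem step_T : ∀ T : Perm (Fin 6), T * T = 1 → T * c012 = c345 * T → T * swap 1 2 = swap 4 5 * T →
    T = flip6 := by decide +kernel

/-- A copy of `S6` labelled at a frame. -/
theorem exists_label {L : Type*} [Group L] (ψ : L ≃* Perm (Fin 6)) {a b B C T : L}
    (ha : a * (a * a) = 1) (ha1 : a ≠ 1) (hb : b * (b * b) = 1) (hb1 : b ≠ 1) (hab : b * a = a * b)
    (hba : b ≠ a) (hba' : b ≠ a * a)
    (hB : B * B = 1) (hBa : B * a = a⁻¹ * B) (hBb : B * b = b * B)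
    (hC : C * C = 1) (hCb : C * b = b⁻¹ * C) (hCa : C * a = a * C)
    (hT : T * T = 1) (hTa : T * a = b * T) (hTB : T * B = C * T) :
    ∃ χ : L ≃* Perm (Fin 6), χ a = c012 ∧ χ b = c345 ∧ χ B = swap 1 2 ∧ χ C = swap 4 5 ∧ χ T = flip6 := by


  have fix : ∀ {c : Perm (Fin 6)} (σ : Perm (Fin 6)), σ * c = c * σ → σ * c * σ⁻¹ = c := fun σ h => by
    rw [h, mul_inv_cancel_right]
  -- a
  obtain ⟨χ₁, h1⟩ : ∃ χ : L ≃* Perm (Fin 6), χ a = c012 := by
    obtain ⟨σ, h | h⟩ := step_a (ψ a) (by rw [← map_mul, ← map_mul, ha, map_one])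
      (fun h => ha1 (by simpa using h))
    · exact ⟨ψ.trans (MulAut.conj σ), h⟩
    · obtain ⟨σ', h'⟩ := outer_double
      refine ⟨((ψ.trans (MulAut.conj σ)).trans outer).trans (MulAut.conj σ'), ?_⟩
      show σ' * outer (σ * ψ a * σ⁻¹) * σ'⁻¹ = c012
      rw [h, h']
  -- b
  obtain ⟨σ, hσ1, hσ2⟩ := step_b (χ₁ b) (by rw [← h1, ← map_mul, ← map_mul, hab])
    (by rw [← map_mul, ← map_mul, hb, map_one]) (fun h => hb1 (by simpa using h))
    (fun h => hba (χ₁.injective (h.trans h1.symm)))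
    (fun h => hba' (χ₁.injective (by rw [h, map_mul, h1])))
    (χ₁ T) (by rw [← h1, ← map_mul, ← map_mul, hTa])
  set χ₂ := χ₁.trans (MulAut.conj σ)
  have a2 : χ₂ a = c012 := by show σ * χ₁ a * σ⁻¹ = _; rw [h1, fix σ hσ1]
  have b2 : χ₂ b = c345 := hσ2
  -- B
  obtain ⟨σ, hσ1, hσ2, hσ3⟩ := step_B (χ₂ B) (by rw [← map_mul, hB, map_one])
    (by rw [← a2, ← map_inv, ← map_mul, ← map_mul, hBa]) (by rw [← b2, ← map_mul, ← map_mul, hBb])
  set χ₃ := χ₂.trans (MulAut.conj σ)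
  have a3 : χ₃ a = c012 := by show σ * χ₂ a * σ⁻¹ = _; rw [a2, fix σ hσ1]
  have b3 : χ₃ b = c345 := by show σ * χ₂ b * σ⁻¹ = _; rw [b2, fix σ hσ2]
  have B3 : χ₃ B = swap 1 2 := hσ3
  -- C
  obtain ⟨σ, hσ1, hσ2, hσ3, hσ4⟩ := step_C (χ₃ C) (by rw [← map_mul, hC, map_one])
    (by rw [← b3, ← map_inv, ← map_mul, ← map_mul, hCb]) (by rw [← a3, ← map_mul, ← map_mul, hCa])
  refine ⟨χ₃.trans (MulAut.conj σ), ?_, ?_, ?_, hσ4, ?_⟩
  · show σ * χ₃ a * σ⁻¹ = _; rw [a3, fix σ hσ1]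
  · show σ * χ₃ b * σ⁻¹ = _; rw [b3, fix σ hσ2]
  · show σ * χ₃ B * σ⁻¹ = _; rw [B3, fix σ hσ3]
  set χ := χ₃.trans (MulAut.conj σ)
  have a4 : χ a = c012 := by show σ * χ₃ a * σ⁻¹ = _; rw [a3, fix σ hσ1]
  have b4 : χ b = c345 := by show σ * χ₃ b * σ⁻¹ = _; rw [b3, fix σ hσ2]
  have B4 : χ B = swap 1 2 := by show σ * χ₃ B * σ⁻¹ = _; rw [B3, fix σ hσ3]
  exact step_T (χ T) (by rw [← map_mul, hT, map_one]) (by rw [← a4, ← b4, ← map_mul, ← map_mul, hTa])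
    (by rw [← B4, ← hσ4, show σ * χ₃ C * σ⁻¹ = χ C from rfl, ← map_mul, ← map_mul, hTB])

end Cfsg.Agent.PSpThreeReal.Six
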