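import Cfsg.Agent.Lib.PSpThreeReal.Points
import Cfsg.Agent.Lib.PSpThreeReal.Large.SixLabel

/-!
# The labelled centralizer of an axis in the large case

* `Big`: the factor `S6` of the centralizer of the first axis, labelled in the coordinates
* `Real.exists_big`: the labels exist
-/

set_option autoImplicit false
set_option maxRecDepth 100000
set_option synthInstance.maxSize 8000
set_option synthInstance.maxHeartbeats 200000

namespace Cfsg.Agent.PSpThreeReal

open Cfsg Subgroup
open SymNineThree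
open Six (c012 c345 flip6)
open ThreeCubedSymFour (V3)
open Multiplicative (ofAdd toAdd)
open Equiv (Perm swap)

/-- The second sign. -/
def eB : Mon := ⟨0, false, false, true, false⟩
/-- The third sign. -/
def eC : Mon := ⟨0, false, false, false, true⟩
/-- The axes. -/
def p1 : V3 := (1, 0, 0)
/-- The second axis. -/
def p2 : V3 := (0, 1, 0)
/-- The third axis. -/
def p3 : V3 := (0, 0, 1)

theorem y_unique : ∀ y : Perm (Fin 6), y * y = 1 → y * swap 1 2 = swap 1 2 * y →
    y * swap 4 5 = swap 4 5 * y → y * flip6 = flip6 * y →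
    y * c012 * (y * c012) * (y * c012) * (y * c012) = 1 → y * c012 * (y * c012) ≠ 1 →
    y = swap 0 3 := by decide +kernel

theorem gen_words : swap 0 1 = c012 * swap 1 2 ∧ swap 0 2 = c012⁻¹ * swap 1 2 ∧
    swap 3 4 = c345 * swap 4 5 ∧ swap 3 5 = c345⁻¹ * swap 4 5 ∧
    swap 0 4 = c345 * swap 0 3 * c345⁻¹ ∧ swap 0 5 = c345⁻¹ * swap 0 3 * c345 := by decide +kernel

theorem swap_words : ∀ a b : Fin 6, a = 0 ∨ b = 0 ∨ a = b ∨
    swap a b = swap 0 a * swap 0 b * swap 0 a := by decide +kernel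

/-- An endomorphism fixing the frame and `(03)` is the identity. -/
theorem eq_id_of_frame (f : Perm (Fin 6) →* Perm (Fin 6)) (ha : f c012 = c012) (hb : f c345 = c345)
    (hB : f (swap 1 2) = swap 1 2) (hy : f (swap 0 3) = swap 0 3) :
    ∀ σ, f σ = σ := by
  obtain ⟨g1, g2, g3, g4, g5, g6⟩ := gen_words
  have h0 : ∀ a : Fin 6, f (swap 0 a) = swap 0 a := by
    intro a
    fin_cases a
    · simp [← Equiv.Perm.one_def]
    · show f (swap 0 1) = _; rw [g1, map_mul, ha, hB]; exact g1.symm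
    · show f (swap 0 2) = _; rw [g2, map_mul, map_inv, ha, hB]; exact g2.symm
    · exact hy
    · show f (swap 0 4) = _; rw [g5, map_mul, map_mul, map_inv, hb, hy]; exact g5.symm
    · show f (swap 0 5) = _; rw [g6, map_mul, map_mul, map_inv, hb, hy]; exact g6.symm
  have hs : ∀ a b : Fin 6, f (swap a b) = swap a b := fun a b => by
    rcases swap_words a b with rfl | rfl | rfl | e
    · exact h0 b
    · rw [Equiv.swap_comm]; exact h0 a
    · rw [Equiv.swap_self, ← Equiv.Perm.one_def, map_one]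
    · rw [e, map_mul, map_mul, h0, h0]
  intro σ
  induction σ using Equiv.Perm.swap_induction_on with
  | one => exact map_one f
  | swap_mul g a b _ ih => rw [map_mul, hs, ih]

universe u

variable {G : Type u} [Group G] {W : Subgroup Mon} {j : Multiplicative V3 →* G} {s : W →* G}
  {P : Pre G}

/-- The labelled centralizer of the first axis. -/
structure Big (W : Subgroup Mon) (j : Multiplicative V3 →* G) (s : W →* G)
    (φ : Perm (Fin 6) →* G) : Prop where
  inj : Function.Injective φ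
  comm : ∀ σ, Commute (φ σ) (el j s p1 1)
  decomp : ∀ g : G, Commute g (el j s p1 1) → ∃ (i : ℕ) (σ : Perm (Fin 6)), g = el j s p1 1 ^ i * φ σ
  e2 : φ c012 = el j s p2 1
  e3 : φ c345 = el j s p3 1
  rB : φ (swap 1 2) = el j s 0 eB
  rC : φ (swap 4 5) = el j s 0 eC
  t : φ flip6 = el j s 0 tau
  rA : ∀ σ, Commute (φ σ) (el j s 0 eA)

theorem Real.el_zero_mul {k : Fin 4} (E : Real W j s k P) {m n : Mon} (hm : m ∈ W) (hn : n ∈ W) :
    el j s 0 m * el j s 0 n = el j s 0 (m * n) := by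
  rw [E.el_mul hm hn, show act m (0 : V3) = 0 from (actAdd m).map_zero, add_zero]

theorem Real.exists_big [Finite G] (E : Real W j s 3 P) {L : Subgroup G}
    (hLC : L ≤ centralizer ({el j s p1 1} : Set G))
    (hS : Nonempty (L ≃* Perm (Fin 6))) (hplane : ∀ u : V3, u.1 = 0 → el j s u 1 ∈ L)
    (hinv : ∀ g ∈ centralizer ({el j s p1 1} : Set G), g * g = 1 → g ∈ L)
    (hdec : ∀ g ∈ centralizer ({el j s p1 1} : Set G), ∃ i : ℕ, ∃ l ∈ L, g = el j s p1 1 ^ i * l) :
    ∃ φ : Perm (Fin 6) →* G, Big W j s φ := by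
  obtain ⟨ψ⟩ := hS
  have hW : ∀ m : Mon, m ∈ W := fun m => E.mem rfl
  have hi : ∀ m : Mon, m * m = 1 → act m p1 = p1 → el j s 0 m ∈ L := fun m h1 h2 =>
    hinv _ ((E.mem_cent_el (hW m)).2 h2) (E.sm_sq (hW m) h1)
  have hz : ∀ {m n : Mon}, el j s 0 m * el j s 0 n = el j s 0 (m * n) := E.el_zero_mul (hW _) (hW _)
  have hc : ∀ (m : Mon) (u v : V3), act m u = v → el j s 0 m * el j s u 1 = el j s v 1 * el j s 0 m := by
    intro m u v h
    rw [E.el_mul (hW _) (hW _), E.el_mul (hW _) (hW _), act_one, one_mul, mul_one, zero_add, add_zero, h]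
  have hcube : ∀ v : V3, el j s v 1 * (el j s v 1 * el j s v 1) = 1 := fun v => by
    rw [← pow_three]; exact E.space_cube (el_mem_range v)
  have hne : ∀ u v : V3, u ≠ v → el j s u 1 ≠ el j s v 1 := fun u v h e =>
    h (E.el_injective (hW _) (hW _) e).1
  obtain ⟨k1, k2, k3, k4, k5, k6, k7, k8, k9, k10⟩ : act eB p2 = -p2 ∧ act eB p3 = p3 ∧ act eC p3 = -p3 ∧
      act eC p2 = p2 ∧ act tau p2 = p3 ∧ tau * eB = eC * tau ∧ eB * eB = 1 ∧ eC * eC = 1 ∧
      tau * tau = 1 ∧ (act eB p1 = p1 ∧ act eC p1 = p1 ∧ act tau p1 = p1) := by decide +kernel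
  obtain ⟨χ, xa, xb, xB, xC, xT⟩ := Six.exists_label ψ
    (a := ⟨_, hplane p2 rfl⟩) (b := ⟨_, hplane p3 rfl⟩) (B := ⟨_, hi eB k7 k10.1⟩)
    (C := ⟨_, hi eC k8 k10.2.1⟩) (T := ⟨_, hi tau k9 k10.2.2⟩)
    (Subtype.ext (hcube p2)) (fun e => hne p2 0 (by decide +kernel) ((congrArg Subtype.val e).trans el_zero_one.symm))
    (Subtype.ext (hcube p3)) (fun e => hne p3 0 (by decide +kernel) ((congrArg Subtype.val e).trans el_zero_one.symm))
    (Subtype.ext (congrArg Subtype.val (E.space_comm.is_comm.comm ⟨_, el_mem_range p3⟩ ⟨_, el_mem_range p2⟩) :))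
    (fun e => hne p3 p2 (by decide +kernel) (congrArg Subtype.val e))
    (fun e => hne p3 (p2 + p2) (by decide +kernel) (by
      have := congrArg Subtype.val e
      simpa [E.el_mul (hW _) (hW _), act_one] using this))
    (Subtype.ext (E.sm_sq (hW _) k7))
    (Subtype.ext (by
      show el j s 0 eB * el j s p2 1 = (el j s p2 1)⁻¹ * el j s 0 eB
      rw [E.el_inv (hW _), inv_one, act_one, hc _ _ _ k1]))
    (Subtype.ext (hc _ _ _ k2))
    (Subtype.ext (E.sm_sq (hW _) k8))
    (Subtype.ext (by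
      show el j s 0 eC * el j s p3 1 = (el j s p3 1)⁻¹ * el j s 0 eC
      rw [E.el_inv (hW _), inv_one, act_one, hc _ _ _ k3]))
    (Subtype.ext (hc _ _ _ k4))
    (Subtype.ext (E.sm_sq (hW _) k9))
    (Subtype.ext (hc _ _ _ k5))
    (Subtype.ext (by
      show el j s 0 tau * el j s 0 eB = el j s 0 eC * el j s 0 tau
      rw [hz, hz, k6]))
  let φ : Perm (Fin 6) →* G := L.subtype.comp χ.symm.toMonoidHom
  have hφ : ∀ {x : G} {hx : x ∈ L} {σ}, χ ⟨x, hx⟩ = σ → φ σ = x := fun {x hx σ} h => by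
    show (χ.symm σ : G) = x
    rw [← h, MulEquiv.symm_apply_apply]
  have hinj : Function.Injective φ := L.subtype_injective.comp χ.symm.injective
  have hmemL : ∀ σ, φ σ ∈ L := fun σ => (χ.symm σ).2
  have hcomm : ∀ σ, Commute (φ σ) (el j s p1 1) := fun σ =>
    mem_centralizer_singleton_iff.1 (hLC (hmemL σ))
  set rA := el j s 0 eA
  have hrr : rA * rA = 1 := E.sm_sq (hW _) (by decide +kernel)
  -- conjugation by `rA` preserves the factor
  have hswap : ∀ a b : Fin 6, rA * φ (swap a b) * rA⁻¹ ∈ L := by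
    intro a b
    refine hinv _ (mem_centralizer_singleton_iff.2 ?_) ?_
    · have h : rA * el j s p1 1 * rA⁻¹ = (el j s p1 1)⁻¹ := by
        rw [E.el_conj (hW _), E.el_inv (hW _), inv_one, act_one]
        exact congrArg (fun v => el j s v 1) (by decide +kernel)
      have h2 : Commute (rA * φ (swap a b) * rA⁻¹) (rA * el j s p1 1 * rA⁻¹) :=
        (hcomm _).map (MulAut.conj rA).toMonoidHom
      rw [h, Commute.inv_right_iff] at h2
      exact h2.eq
    · rw [← pow_two, conj_pow, pow_two, ← map_mul, Equiv.swap_mul_self, map_one, mul_one, mul_inv_cancel]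
  have hmem : ∀ σ, rA * φ σ * rA⁻¹ ∈ L := fun σ => by
    induction σ using Equiv.Perm.swap_induction_on with
    | one => rw [map_one, mul_one, mul_inv_cancel]; exact one_mem L
    | swap_mul g a b _ ih =>
      rw [map_mul, show rA * (φ (swap a b) * φ g) * rA⁻¹ = rA * φ (swap a b) * rA⁻¹ * (rA * φ g * rA⁻¹) by
        group]
      exact mul_mem (hswap a b) ih
  let f : Perm (Fin 6) →* Perm (Fin 6) := χ.toMonoidHom.comp
    (((MulAut.conj rA).toMonoidHom.comp φ).codRestrict L hmem)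
  have hf : ∀ σ, φ (f σ) = rA * φ σ * rA⁻¹ := fun σ => hφ (hx := hmem σ) rfl
  have hfix : ∀ σ, Commute rA (φ σ) → f σ = σ := fun σ h => hinj (by
    rw [hf, h.eq, mul_inv_cancel_right])
  have hA : ∀ (m : Mon), eA * m = m * eA → Commute rA (el j s 0 m) := fun m h => by
    show _ = _
    rw [hz, hz, h]
  have hfB := hfix (swap 1 2) (by rw [hφ xB]; exact hA _ (by decide +kernel))
  have hfC := hfix (swap 4 5) (by rw [hφ xC]; exact hA _ (by decide +kernel))
  have hfT := hfix flip6 (by rw [hφ xT]; exact hA _ (by decide +kernel))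
  have hfa := hfix c012 (by rw [hφ xa]; exact hc _ _ _ (by decide +kernel))
  have hfb := hfix c345 (by rw [hφ xb]; exact hc _ _ _ (by decide +kernel))
  have key : swap 0 3 * swap 1 2 = swap 1 2 * (swap 0 3 : Perm (Fin 6)) ∧
      swap 0 3 * swap 4 5 = swap 4 5 * (swap 0 3 : Perm (Fin 6)) ∧
      swap 0 3 * flip6 = flip6 * swap 0 3 ∧
      swap 0 3 * c012 * (swap 0 3 * c012) * (swap 0 3 * c012) * (swap 0 3 * c012) = 1 ∧
      swap 0 3 * c012 * (swap 0 3 * c012) ≠ 1 := by decide +kernel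
  obtain ⟨q1, q2, q3, q4, q5⟩ := key
  have hfinj : Function.Injective f := fun x y h => by
    have := congrArg φ h
    rw [hf, hf] at this
    exact hinj (mul_left_cancel (mul_right_cancel this))
  have hy : f (swap 0 3) = swap 0 3 := by
    refine y_unique _ (by rw [← map_mul, Equiv.swap_mul_self, map_one]) ?_ ?_ ?_ ?_ ?_
    · rw [← hfB, ← map_mul, ← map_mul, q1]
    · rw [← hfC, ← map_mul, ← map_mul, q2]
    · rw [← hfT, ← map_mul, ← map_mul, q3]
    · rw [← hfa, ← map_mul, ← map_mul, ← map_mul, ← map_mul, q4, map_one]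
    · rw [← hfa, ← map_mul, ← map_mul, ← map_one f]
      exact fun e => q5 (hfinj e)
  have hid := eq_id_of_frame f hfa hfb hfB hy
  refine ⟨φ, hinj, hcomm, fun g hg => ?_, hφ xa, hφ xb, hφ xB, hφ xC, hφ xT, fun σ => ?_⟩
  · obtain ⟨i, l, hl, rfl⟩ := hdec g (mem_centralizer_singleton_iff.2 hg.eq)
    exact ⟨i, χ ⟨l, hl⟩, by rw [hφ (hx := hl) rfl]⟩
  · have := hf σ
    rw [hid] at this
    exact (mul_inv_eq_iff_eq_mul.1 this.symm).symm

end Cfsg.Agent.PSpThreeReal
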