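import Cfsg.Agent.Lib.PSpThreeReal.Large.Comm

/-!
# The elementary abelian group of order 32 in the centralizer of the sign

* `Big.parts_commute`: the parts commute
* `Big.base`, `Big.base_facts`: their join is elementary abelian
* `Big.cong_le_two`, `Big.cong_le_three`: what centralizes a part modulo the sign
-/

set_option autoImplicit false
set_option maxRecDepth 100000
set_option maxHeartbeats 1000000
set_option synthInstance.maxSize 8000
set_option synthInstance.maxHeartbeats 200000

namespace Cfsg.Agent.PSpThreeReal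

open Cfsg Subgroup
open SymNineThree
open Six (c012 c345 flip6)
open ThreeCubedSymFour (V3)
open Equiv (Perm swap)

universe u

variable {G : Type u} [Group G] [Finite G] {W : Subgroup Mon} {j : Multiplicative V3 →* G} {s : W →* G}
  {P : Pre G} {φ : Perm (Fin 6) →* G}

theorem Big.parts_commute (E : Real W j s 3 P) (B : Big W j s φ) {k y : G}
    (hk : k ∈ (B.side_two E).part) (hy : y ∈ (B.side_three E).part) : Commute y k := by
  set S := B.side_two E
  set S' := B.side_three E
  set ψ' := psi3 j s φ
  set r := el j s 0 eA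
  have hr2 : r * r = 1 := E.sign_sq _ (by decide +kernel)
  let δ : G → G := fun g => g * k * g⁻¹ * k⁻¹
  have hδmem : ∀ g, g ∈ S'.part → δ g = 1 ∨ δ g = r := fun g hg =>
    mem_zpowers_two hr2 ((B.part_le_cong E hg).2 k hk)
  have hmul : ∀ g h, g ∈ S'.part → h ∈ S'.part → δ (g * h) = δ h * δ g := fun g h hg hh => by
    have hc : Commute g r := (B.part_le_cong E hg).1
    have hfix : g * δ h * g⁻¹ = δ h := by
      rcases hδmem h hh with e | e <;> rw [e]
      · rw [mul_one, mul_inv_cancel]
      · rw [hc.eq, mul_inv_cancel_right]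
    calc δ (g * h) = g * δ h * g⁻¹ * δ g := by simp only [δ]; group
      _ = _ := by rw [hfix]
  have hr : δ r = 1 := by
    simp only [δ]
    rw [(S.part_sq S.sign_mem_part hk).1, mul_inv_cancel_right, mul_inv_cancel]
  obtain ⟨σ, hσ, rfl⟩ := S'.mem_part.1 hy
  obtain ⟨τ, hτ, hτ', e⟩ := eight_span.2 σ hσ
  have hτm : ψ' τ ∈ S'.part := ⟨τ, hτ, rfl⟩
  have hτm' : ψ' (c012 * τ * c012⁻¹) ∈ S'.part := ⟨_, hτ', rfl⟩
  have hconj : δ (ψ' (c012 * τ * c012⁻¹)) = δ (ψ' τ) := by
    set a := el j s p2 1
    have hak : Commute a k := by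
      obtain ⟨ρ, -, rfl⟩ := S.mem_part.1 hk
      exact (S.comm ρ).symm
    have har : Commute a r := ((E.el_comm_space (E.mem' _)).2 (by decide +kernel)).symm
    rw [map_mul, map_mul, map_inv, S'.other]
    have h1 : a * δ (ψ' τ) * a⁻¹ = δ (ψ' τ) := by
      rcases hδmem _ hτm with e | e <;> rw [e]
      · rw [mul_one, mul_inv_cancel]
      · rw [har.eq, mul_inv_cancel_right]
    conv_rhs => rw [← h1]
    simp only [δ]
    calc a * ψ' τ * a⁻¹ * k * (a * ψ' τ * a⁻¹)⁻¹ * k⁻¹
        = a * ψ' τ * (a⁻¹ * k * a) * (ψ' τ)⁻¹ * (a⁻¹ * k * a)⁻¹ * a⁻¹ := by group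
      _ = _ := by rw [mul_assoc a⁻¹, ← hak.eq, inv_mul_cancel_left]; group
  have h1 : δ (ψ' σ) = 1 := by
    have hp : δ (ψ' (τ * (c012 * τ * c012⁻¹))) = 1 := by
      rw [map_mul, hmul _ _ hτm hτm', hconj]
      rcases hδmem _ hτm with e | e <;> rw [e]
      · exact mul_one 1
      · exact hr2
    rcases e with e | e
    · rw [e]; exact hp
    · rw [e, map_mul, S'.sign, hmul _ _ (by rw [map_mul]; exact mul_mem hτm hτm') S'.sign_mem_part, hr, one_mul, hp]
  exact mul_inv_eq_iff_eq_mul.1 (mul_inv_eq_one.1 h1)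

/-- The join of the two parts. -/
noncomputable def Big.base (E : Real W j s 3 P) (B : Big W j s φ) : Subgroup G :=
  (B.side_two E).part ⊔ (B.side_three E).part

theorem Big.base_facts (E : Real W j s 3 P) (B : Big W j s φ) :
    (∀ x ∈ B.base E, ∀ y ∈ B.base E, x * y = y * x) ∧ (∀ x ∈ B.base E, x * x = 1) ∧
      (B.base E) ≤ centralizer ({el j s 0 eA} : Set G) := by
  set S := B.side_two E
  set S' := B.side_three E
  have hcomm : ∀ x ∈ B.base E, ∀ y ∈ B.base E, x * y = y * x := by
    have h1 : ∀ x, (x ∈ S.part ∨ x ∈ S'.part) → B.base E ≤ centralizer ({x} : Set G) := fun x hx =>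
      sup_le (fun y hy => mem_centralizer_singleton_iff.2 (by
        rcases hx with hx | hx
        exacts [(S.part_sq hy hx).1, (B.parts_commute E hy hx).symm.eq]))
      (fun y hy => mem_centralizer_singleton_iff.2 (by
        rcases hx with hx | hx
        exacts [(B.parts_commute E hx hy).eq, (S'.part_sq hy hx).1]))
    intro x hx y hy
    have h2 : B.base E ≤ centralizer ({y} : Set G) :=
      sup_le (fun z hz => mem_centralizer_singleton_iff.2 (mem_centralizer_singleton_iff.1 (h1 z (Or.inl hz) hy)).symm)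
        (fun z hz => mem_centralizer_singleton_iff.2 (mem_centralizer_singleton_iff.1 (h1 z (Or.inr hz) hy)).symm)
    exact mem_centralizer_singleton_iff.1 (h2 hx)
  refine ⟨hcomm, fun x hx => ?_, fun x hx => mem_centralizer_singleton_iff.2
    (hcomm x hx _ (mem_sup_left S.sign_mem_part))⟩
  have hn : S'.part ≤ normalizer (S.part : Set G) := fun y hy => mem_normalizer_iff.2 fun z => by
    constructor <;> intro hz
    · rwa [(B.parts_commute E hz hy).eq, mul_inv_cancel_right]
    · have h := (B.parts_commute E hz hy).eq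
      have : y * z * y⁻¹ = z := mul_left_cancel (a := y) (by
        rw [h, inv_mul_cancel_right])
      rwa [this] at hz
  obtain ⟨a, ha, b, hb, rfl⟩ := (Coprime.mem_sup_iff hn).1 hx
  have hab : b * a = a * b := hcomm b (mem_sup_right hb) a (mem_sup_left ha)
  rw [mul_assoc a b, ← mul_assoc b a, hab, mul_assoc a b b, (S'.part_sq hb hb).2, mul_one, (S.part_sq ha ha).2]

theorem Big.cong_le_two (E : Real W j s 3 P) (B : Big W j s φ) :
    congGrp (el j s 0 eA) (B.side_two E).part ≤
      B.base E ⊔ zpowers (el j s p2 1) ⊔ zpowers (el j s 0 eB) :=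
  (B.side_two E).cong_le E B (B.base_facts E).1 (B.base_facts E).2.1 le_sup_left
    (B.sig_of_sides E (fun _ hg => mem_centralizer_singleton_iff.2 hg.1.eq)
      (mem_sup_left (B.side_two E).sign_mem_part) (inf_le_right.trans le_sup_left) (inf_le_right.trans le_sup_right))

theorem Big.cong_le_three (E : Real W j s 3 P) (B : Big W j s φ) :
    congGrp (el j s 0 eA) (B.side_three E).part ≤
      B.base E ⊔ zpowers (el j s p3 1) ⊔ zpowers (el j s 0 eC) :=
  (B.side_three E).cong_le E B (B.base_facts E).1 (B.base_facts E).2.1 le_sup_right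
    (B.sig_of_sides E (fun _ hg => mem_centralizer_singleton_iff.2 hg.1.eq)
      (mem_sup_left (B.side_two E).sign_mem_part) (inf_le_right.trans le_sup_left) (inf_le_right.trans le_sup_right))

end Cfsg.Agent.PSpThreeReal
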