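import Cfsg.Agent.Lib.PSpThreeReal.Large.Axes
import Cfsg.Agent.Lib.SymNineThree.SixClasses

/-!
# Classes of involutions in the large case

* `Pt`: the centralizer contains a conjugate of the distinguished element
* `Real.negOne_conj`: the central sign is conjugate to the twisted exchange
* `Big.separated`: transvection, double, central sign and exchange are pairwise not conjugate
* `Big.conj_swap`, `Big.conj_double`, `Big.conj_triple`: the classes in the axis factor
-/

set_option autoImplicit false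
set_option maxRecDepth 100000
set_option maxHeartbeats 1000000
set_option synthInstance.maxSize 8000
set_option synthInstance.maxHeartbeats 200000

namespace Cfsg.Agent.PSpThreeReal

open Cfsg Subgroup
open SymNineThree
open PSpThree.Loc (M emb InJ InS exists_emb)
open Six (c012 c345 flip6)
open ThreeCubedSymFour (V3)
open Multiplicative (ofAdd toAdd)
open Equiv (Perm swap)

/-- Exactly one coordinate vanishes. -/
def Two (v : V3) : Prop := (v.1 = 0 ∨ v.2.1 = 0 ∨ v.2.2 = 0) ∧ ¬ Axis v ∧ v ≠ 0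

instance instDecidableTwo (v : V3) : Decidable (Two v) := by unfold Two; infer_instance

theorem two_orbit : ∀ v : V3, Two v → ∀ m : Mon, act m v ≠ ones ∧ act m v ≠ -ones := by decide +kernel

theorem two_fixed : ∀ v : V3, Two v → ∀ m : Mon, act m v = v → act m ones = -ones → m * m = 1 →
    ∃ r, Mon.perm r false * m * (Mon.perm r false)⁻¹ = negOne * tau := by decide +kernel

theorem model_three : ∀ m : M, InJ (m * emb (0, 1, 0) * m⁻¹) → InJ (m * emb (0, 0, 1) * m⁻¹) →
    m * (m * m) = 1 → InS m := by decide +kernel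

theorem model_two : ∀ m : M, InS m → m * (m * m) = 1 → ∀ A : PSpThree.SL23,
    InJ (SemidirectProduct.inr A * m * (SemidirectProduct.inr A)⁻¹) → InJ m ∨
      ∀ u : PSpThree.Loc.V, SemidirectProduct.inr A * m * (SemidirectProduct.inr A)⁻¹ = emb u →
        Two (ofV u) := by decide +kernel

universe u

variable {G : Type u} [Group G] {W : Subgroup Mon} {j : Multiplicative V3 →* G} {s : W →* G}
  {P : Pre G}

/-- The centralizer of `x` contains a conjugate of the distinguished element. -/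
def Pt (W : Subgroup Mon) (j : Multiplicative V3 →* G) (s : W →* G) (x : G) : Prop :=
  ∃ g : G, Commute (g * el j s ones 1 * g⁻¹) x

theorem Pt.conj {x y : G} (h : Pt W j s x) (hxy : IsConj x y) : Pt W j s y := by
  obtain ⟨c, hc⟩ := isConj_iff.1 hxy
  obtain ⟨g, hg⟩ := h
  refine ⟨c * g, ?_⟩
  rw [← hc, show c * g * el j s ones 1 * (c * g)⁻¹ = c * (g * el j s ones 1 * g⁻¹) * c⁻¹ by group]
  exact hg.map (MulAut.conj c).toMonoidHom

theorem Real.mem' (E : Real W j s 3 P) (m : Mon) : m ∈ W := E.mem rfl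

theorem Real.pt_of_fix (E : Real W j s 3 P) {m : Mon} (h : act m ones = ones) : Pt W j s (el j s 0 m) :=
  ⟨1, by rw [one_mul, inv_one, mul_one]; exact ((E.el_comm_space (E.mem' m)).2 h).symm⟩

theorem Real.isConj_perm (E : Real W j s 3 P) (r : ZMod 3) (m : Mon) :
    IsConj (el j s 0 m) (el j s 0 (Mon.perm r false * m * (Mon.perm r false)⁻¹)) := by
  refine isConj_iff.2 ⟨el j s 0 (Mon.perm r false), ?_⟩
  rw [mul_inv_eq_iff_eq_mul, E.el_zero_mul (E.mem' _) (E.mem' _), E.el_zero_mul (E.mem' _) (E.mem' _),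
    inv_mul_cancel_right]

variable [Finite G]

theorem Real.cent_two (E : Real W j s 3 P) {v : V3} (h : Two v) :
    centralizer ({el j s v 1} : Set G) ≤ normalizer (j.range : Set G) := by
  rcases E.cent_or_axis h.2.2 with ⟨m, -, hm⟩ | h' | ⟨-, h'⟩
  · obtain ⟨h1, h2⟩ := two_orbit v h m
    rcases hm with e | e
    exacts [absurd e h1, absurd e h2]
  · exact h'
  · exact absurd h' h.2.1

/-- A Sylow subgroup of order three without conjugates of the distinguished element. -/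
theorem Real.not_pt_of_line (E : Real W j s 3 P) {x : G} {v : V3}
    (hv : ∀ m : Mon, act m v ≠ ones ∧ act m v ≠ -ones) (hv0 : v ≠ 0)
    (hvx : el j s v 1 ∈ centralizer ({x} : Set G)) (h9 : ¬ 9 ∣ Nat.card (centralizer ({x} : Set G))) :
    ¬ Pt W j s x ∧ ∀ p ∈ centralizer ({x} : Set G), p ^ 3 = 1 → p ≠ 1 →
      IsConj p (el j s v 1) ∨ IsConj p (el j s (-v) 1) := by
  set C := centralizer ({x} : Set G)
  have : Fact (Nat.Prime 3) := ⟨Nat.prime_three⟩
  set e := el j s v 1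
  have he3 : e ^ 3 = 1 := E.space_cube (el_mem_range v)
  have he1 : e ≠ 1 := fun h => hv0 ((E.el_eq_one_iff (one_mem W)).1 h).1
  have hcard : ∀ {p : G}, p ^ 3 = 1 → p ≠ 1 → Nat.card (zpowers p) = 3 := fun h h' => by
    rw [Nat.card_zpowers, orderOf_eq_prime h h']
  have hidx : ¬ 3 ∣ ((zpowers e).subgroupOf C).index := by
    rintro ⟨d, hd⟩
    have h := ((zpowers e).subgroupOf C).card_mul_index
    rw [Nat.card_congr (subgroupOfEquivOfLe (zpowers_le.2 hvx)).toEquiv, hcard he3 he1, hd] at h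
    exact h9 ⟨d, by linarith⟩
  have hmain : ∀ p ∈ C, p ^ 3 = 1 → p ≠ 1 → IsConj p e ∨ IsConj p (el j s (-v) 1) := by
    intro p hp hp3 hp1
    obtain ⟨c, -, hc⟩ := conj_into (zpowers_le.2 hvx) (IsPGroup.of_card (n := 1) (by rw [hcard he3 he1, pow_one]))
      hidx (IsPGroup.of_card (n := 1) (by rw [hcard hp3 hp1, pow_one])) (zpowers_le.2 hp)
    obtain ⟨i, hi⟩ := mem_zpowers_iff.1 (hc p (mem_zpowers p))
    have hmod : e ^ i = e ^ (i % 3) :=
      (zpow_mod_orderOf e i).symm.trans (by rw [orderOf_eq_prime he3 he1]; rfl)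
    rw [hmod] at hi
    rcases (show i % 3 = 0 ∨ i % 3 = 1 ∨ i % 3 = 2 by omega) with h | h | h <;> rw [h] at hi
    · rw [zpow_zero] at hi
      exact absurd (conj_eq_one_iff.1 hi.symm) hp1
    · rw [zpow_one] at hi
      exact Or.inl (isConj_iff.2 ⟨c, hi.symm⟩)
    · refine Or.inr (isConj_iff.2 ⟨c, ?_⟩)
      rw [← hi, show el j s (-v) 1 = e⁻¹ by rw [E.el_inv (one_mem W), inv_one, act_one],
        eq_inv_iff_mul_eq_one, show (2 : ℤ) = (2 : ℕ) from rfl, zpow_natCast, ← pow_succ, he3]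
  refine ⟨fun ⟨g, hg⟩ => ?_, hmain⟩
  have hz1 : el j s ones 1 ≠ 1 := fun h =>
    absurd ((E.el_eq_one_iff (one_mem W)).1 h).1 (by decide +kernel)
  rcases hmain _ (mem_centralizer_singleton_iff.2 hg.eq)
    (by rw [conj_pow, E.space_cube (el_mem_range ones), mul_one, mul_inv_cancel])
    (fun h => hz1 (conj_eq_one_iff.1 h)) with h | h <;>
    obtain ⟨c, hc⟩ := isConj_iff.1 h <;>
    obtain ⟨m, -, hm⟩ := E.fusion (g := c * g) (u := ones) (Eq.trans (by group) hc)
  · have h1 := congrArg (act m⁻¹) hm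
    rw [← act_mul, inv_mul_cancel, act_one] at h1
    exact (hv m⁻¹).1 h1.symm
  · have h1 := congrArg (act m⁻¹) hm
    rw [← act_mul, inv_mul_cancel, act_one,
      show act m⁻¹ (-v) = -act m⁻¹ v from (actAdd m⁻¹).map_neg v] at h1
    exact (hv m⁻¹).2 (by rw [h1, neg_neg])

theorem Real.not_nine_negTau (E : Real W j s 3 P) :
    el j s (0, 1, -1) 1 ∈ centralizer ({el j s 0 (negOne * tau)} : Set G) ∧
      ¬ 9 ∣ Nat.card (centralizer ({el j s 0 (negOne * tau)} : Set G)) := by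
  obtain ⟨hfix, hne, hline, h3⟩ := negTau_facts
  have hmem : el j s (0, 1, -1) 1 ∈ centralizer ({el j s 0 (negOne * tau)} : Set G) :=
    mem_centralizer_singleton_iff.2 ((E.el_comm_space (E.mem' _)).2 hfix).symm
  refine ⟨hmem, not_nine_of_three hmem (E.space_cube (el_mem_range _))
    (fun h => hne ((E.el_eq_one_iff (one_mem W)).1 h).1) fun g hg hgu n hn => ?_⟩
  obtain ⟨w, m, hm, rfl⟩ := E.exists_normal_form
    (E.cent_two (v := (0, 1, -1)) (by decide +kernel) (mem_centralizer_singleton_iff.2 hgu))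
  have hc := mem_centralizer_singleton_iff.1 hg
  rw [E.el_comm_iff hm (E.mem' _), show act m (0 : V3) = 0 from (actAdd m).map_zero, add_zero, zero_add] at hc
  obtain rfl : m = 1 := h3 m (E.three_form hm hn) hc.2
  rcases hline w hc.1.symm with rfl | rfl | rfl
  · rw [el_zero_one]; exact one_mem _
  · exact mem_zpowers _
  · rw [show el j s (-(0, 1, -1)) 1 = (el j s (0, 1, -1) 1)⁻¹ by
      rw [E.el_inv (one_mem W), inv_one, act_one]]
    exact inv_mem (mem_zpowers _)

/-- The central sign is conjugate to the twisted exchange. -/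
theorem Real.negOne_conj (E : Real W j s 3 P) : IsConj (el j s 0 negOne) (el j s 0 (negOne * tau)) := by
  have hW := E.mem'
  set ρ := el j s 0 rot
  set ι := el j s 0 negOne
  have hρz : Commute ρ P.z := by
    rw [E.z_eq]; exact (E.el_comm_space (hW _)).2 (by decide +kernel)
  obtain ⟨m₀, hm₀⟩ := P.range ρ hρz
  have hρ3 : ρ * (ρ * ρ) = 1 := by
    rw [E.el_zero_mul (hW _) (hW _), E.el_zero_mul (hW _) (hW _),
      show rot * (rot * rot) = 1 by decide +kernel, el_zero_one]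
  have hρJ : ρ ∉ j.range := fun h => by
    obtain ⟨u, hu⟩ := exists_el (s := s) h
    exact (by decide +kernel : rot ≠ 1) (E.el_injective (hW _) (one_mem W) hu).2
  have hin : ∀ v, InJ (m₀ * emb v * m₀⁻¹) := fun v => by
    have h1 : P.θ (m₀ * emb v * m₀⁻¹) ∈ P.J := by
      rw [map_mul, map_mul, map_inv, hm₀, E.range_eq, show P.θ (emb v) = el j s (ofV v) 1 from E.em_eq' v,
        E.el_conj (hW _)]
      exact el_mem_range _
    obtain ⟨w, hw⟩ := P.mem_J.1 h1
    rw [← P.inj hw]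
    exact PSpThree.Loc.inJ_emb w
  have h3 : m₀ * (m₀ * m₀) = 1 := P.inj (by rw [map_mul, map_mul, hm₀, hρ3, map_one])
  have hS := model_three m₀ (hin _) (hin _) h3
  rcases cube_cases m₀ hS with h | h | ⟨A, hA⟩
  · rw [h3] at h; exact absurd h (by decide +kernel)
  · rw [h3] at h; exact absurd h (by decide +kernel)
  obtain ⟨u, hu⟩ := exists_emb _ hA
  have hT : Two (ofV u) := by
    rcases model_two m₀ hS h3 A hA with h | h
    · exact absurd (E.range_eq ▸ hm₀ ▸ P.mem_J_of_model h : ρ ∈ j.range) hρJ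
    · exact h u hu.symm
  set a := P.θ (SemidirectProduct.inr A)
  have hau : a * ρ * a⁻¹ = el j s (ofV u) 1 := by
    rw [← E.em_eq', ← hm₀, ← map_inv, ← map_mul, ← map_mul, ← hu]; rfl
  set ι' := a * ι * a⁻¹
  have hι' : ι' ∈ centralizer ({el j s (ofV u) 1} : Set G) := by
    refine mem_centralizer_singleton_iff.2 ?_
    rw [← hau]
    refine ((show Commute ι ρ from ?_).map (MulAut.conj a).toMonoidHom).eq
    show _ = _
    rw [E.el_zero_mul (hW _) (hW _), E.el_zero_mul (hW _) (hW _), negOne_central]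
  obtain ⟨w, m, hm, hm'⟩ := E.exists_normal_form (E.cent_two hT hι')
  have hι2 : ι' * ι' = 1 := by
    show a * ι * a⁻¹ * (a * ι * a⁻¹) = 1
    rw [show a * ι * a⁻¹ * (a * ι * a⁻¹) = a * (ι * ι) * a⁻¹ by group,
      E.sm_sq (hW _) (by decide +kernel), mul_one, mul_inv_cancel]
  have hinv : ι' * el j s ones 1 * ι'⁻¹ = el j s (-ones) 1 := by
    have ha : Commute a (el j s ones 1) := E.z_eq ▸ P.commute_z _
    have hb : Commute a (el j s (-ones) 1) := by
      rw [show el j s (-ones) 1 = (el j s ones 1)⁻¹ by rw [E.el_inv (hW _), inv_one, act_one]]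
      exact ha.inv_right
    show a * ι * a⁻¹ * el j s ones 1 * (a * ι * a⁻¹)⁻¹ = _
    rw [show a * ι * a⁻¹ * el j s ones 1 * (a * ι * a⁻¹)⁻¹ =
        a * (ι * (a⁻¹ * el j s ones 1 * a) * ι⁻¹) * a⁻¹ by group,
      show a⁻¹ * el j s ones 1 * a = el j s ones 1 by rw [mul_assoc, ← ha.eq, inv_mul_cancel_left],
      E.el_conj (hW _), act_negOne, hb.eq, mul_inv_cancel_right]
  rw [hm', E.el_conj hm] at hinv
  have hfix : act m (ofV u) = ofV u := (E.mem_cent_el hm).1 (hm' ▸ hι')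
  have hsq : el j s w m * el j s w m = 1 := hm' ▸ hι2
  rw [E.el_mul hm hm, E.el_eq_one_iff (mul_mem hm hm)] at hsq
  obtain ⟨r, hr⟩ := two_fixed _ hT m hfix (E.el_injective (one_mem W) (one_mem W) hinv).1 hsq.2
  have h1 : IsConj ι (el j s w m) := isConj_iff.2 ⟨a, hm'⟩
  have h2 : IsConj (el j s w m) (el j s 0 m) := by
    refine isConj_iff.2 ⟨(el j s (-w) 1)⁻¹, ?_⟩
    rw [inv_inv, mul_assoc, inv_mul_eq_iff_eq_mul, E.el_mul hm (hW _), E.el_mul (hW _) hm, mul_one, one_mul,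
      act_one, add_zero, show act m (-w) = -act m w from (actAdd m).map_neg w,
      eq_neg_of_add_eq_zero_right hsq.1, neg_neg]
    congr 1
    clear * - w
    revert w
    decide +kernel
  exact h1.trans (h2.trans (hr ▸ E.isConj_perm r m))

variable {φ : Perm (Fin 6) →* G}

omit [Finite G] in
theorem Big.eq_one_of_zpow (B : Big W j s φ) {σ : Perm (Fin 6)} {i : ℤ}
    (h : φ σ = el j s p1 1 ^ i) : σ = 1 := by
  refine (by decide +kernel : ∀ σ : Perm (Fin 6), σ * swap 0 1 = swap 0 1 * σ →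
    σ * swap 1 2 = swap 1 2 * σ → σ * swap 3 4 = swap 3 4 * σ → σ * swap 2 3 = swap 2 3 * σ →
    σ = 1) σ ?_ ?_ ?_ ?_
  all_goals
    refine B.inj ?_
    rw [map_mul, map_mul, h]
    exact ((B.comm _).symm.zpow_left i).eq

omit [Finite G] in
theorem Big.double (E : Real W j s 3 P) (B : Big W j s φ) :
    φ (swap 1 2 * swap 4 5) = el j s 0 eBC := by
  rw [map_mul, B.rB, B.rC, E.el_zero_mul (E.mem' _) (E.mem' _), show eB * eC = eBC by decide +kernel]

theorem Big.not_nine_double (E : Real W j s 3 P) (B : Big W j s φ) :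
    el j s p1 1 ∈ centralizer ({el j s 0 eBC} : Set G) ∧
      ¬ 9 ∣ Nat.card (centralizer ({el j s 0 eBC} : Set G)) := by
  have hmem : el j s p1 1 ∈ centralizer ({el j s 0 eBC} : Set G) :=
    mem_centralizer_singleton_iff.2 (B.double E ▸ (B.comm _).symm.eq)
  refine ⟨hmem, not_nine_of_three hmem (E.space_cube (el_mem_range _))
    (fun h => (by decide +kernel : p1 ≠ 0) ((E.el_eq_one_iff (one_mem W)).1 h).1) fun g hg hge n hn => ?_⟩
  obtain ⟨i, σ, rfl⟩ := B.decomp g hge
  have hc : Commute (φ σ) (el j s 0 eBC) := by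
    have h1 : Commute (el j s p1 1 ^ i) (el j s 0 eBC) := B.double E ▸ (B.comm _).symm.pow_left i
    have h2 := (h1.inv_left).mul_left
      (show Commute (el j s p1 1 ^ i * φ σ) (el j s 0 eBC) from mem_centralizer_singleton_iff.1 hg)
    rwa [inv_mul_cancel_left] at h2
  have h4 : σ ^ 4 = 1 := by
    rw [show σ ^ 4 = σ * σ * (σ * σ) by simp [pow_succ, mul_assoc]]
    exact (by decide +kernel : ∀ σ : Perm (Fin 6),
      σ * (swap 1 2 * swap 4 5) = swap 1 2 * swap 4 5 * σ → σ * σ * (σ * σ) = 1) σ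
        (B.inj (by rw [map_mul φ σ, map_mul φ _ σ, B.double E]; exact hc.eq))
  have h3 : σ ^ 3 ^ n = 1 := by
    rw [((B.comm σ).symm.pow_left i).mul_pow] at hn
    refine B.eq_one_of_zpow (i := -((i * 3 ^ n : ℕ) : ℤ)) ?_
    rw [map_pow, eq_inv_of_mul_eq_one_right hn, zpow_neg, zpow_natCast, pow_mul]
  have h1 : σ = 1 := by
    have hg := pow_gcd_eq_one.2 ⟨h3, h4⟩
    rwa [show Nat.gcd (3 ^ n) 4 = 1 from Nat.Coprime.pow_left n (by norm_num), pow_one] at hg
  rw [h1, map_one, mul_one]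
  exact pow_mem (mem_zpowers _) i

omit [Finite G] in
theorem Real.mem_plane23 (E : Real W j s 3 P) {u : V3} :
    el j s u 1 ∈ planeSub j (fixMap eA) ↔ u.1 = 0 :=
  E.mem_planeSub.trans (fixMap_eq_zero.trans
    ((by decide +kernel : ∀ u : V3, act eA u = u ↔ u.1 = 0) u))

/-- A Sylow subgroup of the centralizer of the first sign. -/
theorem Real.sign_index (E : Real W j s 3 P) :
    planeSub j (fixMap eA) ≤ centralizer ({el j s 0 eA} : Set G) ∧
      ¬ 3 ∣ ((planeSub j (fixMap eA)).subgroupOf (centralizer ({el j s 0 eA} : Set G))).index := by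
  set Q := planeSub j (fixMap eA)
  have hQC : Q ≤ centralizer ({el j s 0 eA} : Set G) := fun g hg => by
    obtain ⟨u, hu, rfl⟩ := E.exists_planeSub hg
    exact mem_centralizer_singleton_iff.2 ((E.el_comm_space (E.mem' _)).2 (fixMap_eq_zero.1 hu)).symm
  refine ⟨hQC, not_dvd_index_of_normalizer hQC (E.space_isPGroup.to_le (planeSub_le _))
    fun g hg hgQ n hn => ?_⟩
  -- `g` centralizes both axes
  have hmove : ∀ v, v = p2 ∨ v = p3 → ∃ w, g * el j s v 1 * g⁻¹ = el j s w 1 ∧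
      (w = p2 ∨ w = p3 ∨ w = -p2 ∨ w = -p3) := by
    intro v hv
    have h1 := (mem_normalizer_iff.1 hgQ _).1 ((E.mem_plane23 (u := v)).2 (by rcases hv with rfl | rfl <;> rfl))
    obtain ⟨w, hw, e⟩ := E.exists_planeSub h1
    obtain ⟨m, -, hm⟩ := E.fusion e
    refine ⟨w, e, ?_⟩
    refine (by decide +kernel : ∀ v w : V3, ∀ m : Mon, (v = p2 ∨ v = p3) → w.1 = 0 → act m v = w →
      w = p2 ∨ w = p3 ∨ w = -p2 ∨ w = -p3) v w m hv
      ((by decide +kernel : ∀ u : V3, act eA u = u → u.1 = 0) w (fixMap_eq_zero.1 hw)) hm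
  obtain ⟨w₂, e₂, hw₂⟩ := hmove p2 (Or.inl rfl)
  obtain ⟨w₃, e₃, hw₃⟩ := hmove p3 (Or.inr rfl)
  let F : V3 → V3 := fun u => u.2.1.val • w₂ + u.2.2.val • w₃
  have hel : ∀ (u : V3) (a : ℕ), el j s (a • u) 1 = el j s u 1 ^ a := fun u a => by
    rw [el_one_right, el_one_right, ← map_pow, ofAdd_nsmul]
  have hadd : ∀ u v : V3, el j s (u + v) 1 = el j s u 1 * el j s v 1 := fun u v => by
    rw [E.el_mul (one_mem W) (one_mem W), act_one, one_mul]
  have hlin : ∀ u : V3, u.1 = 0 → g * el j s u 1 * g⁻¹ = el j s (F u) 1 := fun u hu => by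
    conv_lhs => rw [(by decide +kernel : ∀ u : V3, u.1 = 0 → u = u.2.1.val • p2 + u.2.2.val • p3) u hu]
    rw [hadd, hel, hel, hadd, hel, hel, ← e₂, ← e₃, conj_pow, conj_pow]
    group
  have hel' : ∀ u : V3, (el j s u 1)⁻¹ = el j s (-u) 1 := fun u => by
    rw [E.el_inv (one_mem W), inv_one, act_one]
  have hne : w₂ ≠ w₃ ∧ w₂ ≠ -w₃ := by
    constructor <;> intro h
    · exact absurd (E.el_injective (one_mem W) (one_mem W)
        (mul_left_cancel (mul_right_cancel ((e₂.trans (by rw [h])).trans e₃.symm)))).1 (by decide +kernel)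
    · have hn3 : g * el j s (-p3) 1 * g⁻¹ = el j s (-w₃) 1 := by
        rw [← hel' p3, ← hel' w₃, ← e₃, conj_inv]
      exact absurd (E.el_injective (one_mem W) (one_mem W)
        (mul_left_cancel (mul_right_cancel ((e₂.trans (by rw [h])).trans hn3.symm)))).1 (by decide +kernel)
  have key := (by decide +kernel : ∀ w₂ w₃ : V3, (w₂ = p2 ∨ w₂ = p3 ∨ w₂ = -p2 ∨ w₂ = -p3) →
    (w₃ = p2 ∨ w₃ = p3 ∨ w₃ = -p2 ∨ w₃ = -p3) → w₂ ≠ w₃ → w₂ ≠ -w₃ → ∀ u : V3, u.1 = 0 →
    let F : V3 → V3 := fun u => u.2.1.val • w₂ + u.2.2.val • w₃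
    (F u).1 = 0 ∧ F (F (F (F u))) = u) w₂ w₃ hw₂ hw₃ hne.1 hne.2
  have hfix : ∀ v, v = p2 ∨ v = p3 → g * el j s v 1 * g⁻¹ = el j s v 1 := by
    intro v hv
    have hv0 : v.1 = 0 := by rcases hv with rfl | rfl <;> rfl
    have h4 : Commute (g ^ 4) (el j s v 1) := by
      refine mul_inv_eq_iff_eq_mul.1 ?_
      have e : g ^ 4 * el j s v 1 * (g ^ 4)⁻¹ = g * (g * (g * (g * el j s v 1 * g⁻¹) * g⁻¹) * g⁻¹) * g⁻¹ := by
        simp only [pow_succ, pow_zero, one_mul, mul_inv_rev, mul_assoc]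
      have c1 : (F v).1 = 0 := (key v hv0).1
      have c2 : (F (F v)).1 = 0 := (key _ c1).1
      have c3 : (F (F (F v))).1 = 0 := (key _ c2).1
      rw [e, hlin v hv0, hlin _ c1, hlin _ c2, hlin _ c3]
      exact congrArg (fun w => el j s w 1) (key v hv0).2
    obtain ⟨c, hc⟩ : ∃ c : ℕ, (g ^ 4) ^ c = g := by
      have hcop : Nat.Coprime 4 (orderOf g) :=
        (Nat.Coprime.pow_right n (by norm_num : Nat.Coprime 4 3)).coprime_dvd_right (orderOf_dvd_of_pow_eq_one hn)
      exact exists_pow_eq_self_of_coprime hcop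
    have h1 := h4.pow_left c
    rw [hc] at h1
    rw [h1.eq, mul_inv_cancel_right]
  have hcm : ∀ v, v = p2 ∨ v = p3 → g ∈ centralizer ({el j s v 1} : Set G) := fun v hv =>
    mem_centralizer_singleton_iff.2 (mul_inv_eq_iff_eq_mul.1 (hfix v hv))
  have h23 : g ∈ centralizer ({el j s p2 1} : Set G) ⊓ centralizer ({el j s p3 1} : Set G) :=
    ⟨hcm _ (Or.inl rfl), hcm _ (Or.inr rfl)⟩
  obtain ⟨w, m, hm, hms, rfl⟩ := E.stab_of_mem (E.cent_pair (v := p2) (p := p3) (by decide +kernel) h23) h23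
  obtain rfl : m = 1 := eq_one_of_small (by decide +kernel) hms (E.three_form hm hn)
  exact E.mem_planeSub.2 (fixMap_eq_zero.2
    ((E.el_comm_space (E.mem' _)).1 (mem_centralizer_singleton_iff.1 hg).symm))

theorem Real.nine_sign (E : Real W j s 3 P) : 9 ∣ Nat.card (centralizer ({el j s 0 eA} : Set G)) := by
  refine dvd_trans (dvd_of_eq ?_) (card_dvd_of_le E.sign_index.1)
  rw [E.card_planeSub]
  refine Eq.trans ?_ (congrArg Finset.card (Finset.filter_congr fun u _ => fixMap_eq_zero.symm))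
  decide +kernel

theorem Real.not_pt_sign (E : Real W j s 3 P) : ¬ Pt W j s (el j s 0 eA) := by
  obtain ⟨hQC, hidx⟩ := E.sign_index
  rintro ⟨g, hg⟩
  have h3 : IsPGroup 3 (zpowers (g * el j s ones 1 * g⁻¹)) := by
    refine E.space_isPGroup.map (MulAut.conj g).toMonoidHom |>.to_le (zpowers_le.2 ?_)
    exact ⟨_, el_mem_range ones, rfl⟩
  obtain ⟨c, -, hc⟩ := conj_into hQC (E.space_isPGroup.to_le (planeSub_le _)) hidx h3
    (zpowers_le.2 (mem_centralizer_singleton_iff.2 hg.eq))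
  obtain ⟨u, hu, e⟩ := E.exists_planeSub (hc _ (mem_zpowers _))
  obtain ⟨m, -, hm⟩ := E.fusion (g := c * g) (u := ones) (v := u) (by rw [← e]; group)
  exact (by decide +kernel : ∀ m : Mon, act eA (act m ones) ≠ act m ones) m
    (by rw [hm]; exact fixMap_eq_zero.1 hu)

/-- The four classes. -/
theorem Big.separated (E : Real W j s 3 P) (B : Big W j s φ) :
    ¬ Pt W j s (el j s 0 eA) ∧ ¬ Pt W j s (el j s 0 eBC) ∧ ¬ Pt W j s (el j s 0 negOne) ∧
      Pt W j s (el j s 0 tau) ∧ ¬ IsConj (el j s 0 eA) (el j s 0 eBC) ∧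
      ¬ IsConj (el j s 0 eA) (el j s 0 negOne) ∧ ¬ IsConj (el j s 0 eBC) (el j s 0 negOne) := by
  obtain ⟨hd, hd9⟩ := B.not_nine_double E
  obtain ⟨hn, hn9⟩ := E.not_nine_negTau
  have hp1 : ∀ m : Mon, act m p1 ≠ ones ∧ act m p1 ≠ -ones := by decide +kernel
  obtain ⟨hdP, hdline⟩ := E.not_pt_of_line hp1 (by decide +kernel) hd hd9
  obtain ⟨hnP, -⟩ := E.not_pt_of_line (two_orbit (0, 1, -1) (by decide +kernel)) (by decide +kernel) hn hn9
  have hnc := E.negOne_conj
  refine ⟨E.not_pt_sign, hdP, fun h => hnP (h.conj hnc), E.pt_of_fix tau_facts.2.1, fun h => ?_,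
    fun h => ?_, fun h => ?_⟩
  · obtain ⟨g, hg⟩ := isConj_iff.1 h
    exact hd9 (nine_dvd_conj hg E.nine_sign)
  · obtain ⟨g, hg⟩ := isConj_iff.1 (h.trans hnc)
    exact hn9 (nine_dvd_conj hg E.nine_sign)
  · obtain ⟨g, hg⟩ := isConj_iff.1 (h.trans hnc).symm
    set e := el j s (0, 1, -1) 1
    have he : g * e * g⁻¹ ∈ centralizer ({el j s 0 eBC} : Set G) := hg ▸ conj_mem_centralizer hn
    rcases hdline _ he (by rw [conj_pow, E.space_cube (el_mem_range _), mul_one, mul_inv_cancel])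
      (fun h0 => (by decide +kernel : ((0, 1, -1) : V3) ≠ 0)
        ((E.el_eq_one_iff (one_mem W)).1 (conj_eq_one_iff.1 h0)).1) with hc | hc <;>
      obtain ⟨c, hc⟩ := isConj_iff.1 hc <;>
      obtain ⟨m, -, hm⟩ := E.fusion (g := c * g) (u := (0, 1, -1))
        (Eq.trans (by rw [mul_inv_rev]; simp only [mul_assoc]; rfl) hc)
    · exact (by decide +kernel : ∀ m : Mon, act m (0, 1, -1) ≠ p1) m hm
    · exact (by decide +kernel : ∀ m : Mon, act m (0, 1, -1) ≠ -p1) m hm

omit [Finite G] in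
theorem Big.conj_swap (E : Real W j s 3 P) (B : Big W j s φ) {a b : Fin 6} (h : a ≠ b) :
    IsConj (el j s 0 eA) (φ (swap a b)) := by
  have h1 : IsConj (el j s 0 eA) (φ (swap 1 2)) := by
    rw [B.rB, show eB = Mon.perm 1 false * eA * (Mon.perm 1 false)⁻¹ by decide +kernel]
    exact E.isConj_perm 1 eA
  exact h1.trans (φ.map_isConj (Equiv.Perm.isConj_swap (by decide) h))

omit [Finite G] in
theorem Big.conj_double (E : Real W j s 3 P) (B : Big W j s φ) {σ : Perm (Fin 6)}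
    (h : IsConj (swap 1 2 * swap 4 5) σ) : IsConj (el j s 0 eBC) (φ σ) :=
  B.double E ▸ φ.map_isConj h

omit [Finite G] in
theorem Big.conj_triple (B : Big W j s φ) {σ : Perm (Fin 6)} (h : IsConj flip6 σ) :
    IsConj (el j s 0 tau) (φ σ) := B.t ▸ φ.map_isConj h

end Cfsg.Agent.PSpThreeReal
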