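import Cfsg.Agent.Lib.SubThree.Shape

/-!
# A self-centralizing four group with one class of involutions

* `two_classes`: the involutions not conjugate into the four group form one class
-/

set_option autoImplicit false
set_option maxHeartbeats 1000000
set_option linter.style.haveILetI false

namespace Cfsg.Agent.PSpThreeReal

open Cfsg Subgroup

universe u

theorem zmod_parity {n : ℕ} [NeZero n] (a : ZMod n) : ∃ j, a = 2 * j ∨ a = 2 * j + 1 := by
  refine ⟨((a.val / 2 : ℕ) : ZMod n), ?_⟩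
  rcases Nat.even_or_odd a.val with ⟨l, hl⟩ | ⟨l, hl⟩
  · left
    conv_lhs => rw [← ZMod.natCast_zmod_val a, hl]
    rw [show (a.val / 2) = l by omega]
    push_cast; ring
  · right
    conv_lhs => rw [← ZMod.natCast_zmod_val a, hl]
    rw [show (a.val / 2) = l by omega]
    push_cast; ring

theorem dihedral_conj {m : ℕ} (a j : ZMod m) :
    IsConj (DihedralGroup.sr a) (DihedralGroup.sr (a + 2 * j)) := by
  refine isConj_iff.2 ⟨DihedralGroup.r (-j), ?_⟩
  rw [DihedralGroup.inv_r, DihedralGroup.r_mul_sr, DihedralGroup.sr_mul_r]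
  congr 1
  ring

/-- Two involutions of a dihedral or semidihedral group missing the classes of a four group. -/
theorem isConj_of_missing {S : Type u} [Group S] [Finite S] (h2 : IsPGroup 2 S) {V : Subgroup S}
    (hV : IsKleinFour V) (hC : centralizer (V : Set S) = V) {x y : S} (hx : x * x = 1) (hy : y * y = 1)
    (hxV : ∀ v ∈ V, ¬ IsConj v x) (hyV : ∀ v ∈ V, ¬ IsConj v y) : IsConj x y := by
  have hmem : ∀ c : S, (∀ v ∈ V, c * v = v * c) → c ∈ V := fun c h =>
    hC ▸ mem_centralizer_iff.2 fun v hv => (h v hv).symm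
  rcases SubThree.shape h2 V hV hC with h4 | ⟨k, ⟨e⟩⟩ | hqd
  · have : V = ⊤ := eq_top_of_card_eq V (by rw [hV.card_four, h4])
    exact absurd (IsConj.refl x) (hxV x (this ▸ mem_top x))
  · set m := 2 ^ (k + 2)
    haveI : NeZero m := ⟨by positivity⟩
    obtain ⟨a, -, b, -, ha, hb, hne⟩ := SubThree.klein_two hV
    -- the central elements lie in `V`
    have hcases : ∀ u : S, u * u = 1 → (∀ v ∈ V, ¬ IsConj v u) →
        ∃ i, e u = DihedralGroup.sr i := by
      intro u hu huV
      rcases hd : e u with i | i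
      · exfalso
        refine huV u (hmem u fun v _ => e.injective ?_) (IsConj.refl u)
        have hi : i + i = 0 := by
          have := congrArg e hu
          rw [map_mul, hd, DihedralGroup.r_mul_r, map_one, DihedralGroup.one_def] at this
          exact DihedralGroup.r.inj this
        rw [map_mul, map_mul, hd]
        rcases e v with l | l
        · rw [DihedralGroup.r_mul_r, DihedralGroup.r_mul_r, add_comm]
        · rw [DihedralGroup.r_mul_sr, DihedralGroup.sr_mul_r, sub_eq_add_neg, eq_neg_of_add_eq_zero_left hi,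
            neg_neg]
          congr 1
          rw [← eq_neg_of_add_eq_zero_left hi]
      · exact ⟨i, rfl⟩
    obtain ⟨i₀, v₀, hv₀, hi₀⟩ : ∃ i₀, ∃ v₀ ∈ V, e v₀ = DihedralGroup.sr i₀ := by
      by_contra hno
      push Not at hno
      -- otherwise `V` lies in the rotations, a cyclic group
      have hrot : ∀ v ∈ V, ∃ i, e v = DihedralGroup.r i := fun v hv => by
        rcases hd : e v with i | i
        · exact ⟨i, rfl⟩
        · exact absurd hd (hno i v hv)
      obtain ⟨p, hp, q, hq, hp2, hq2, hpq⟩ := SubThree.klein_two hV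
      obtain ⟨i, hi⟩ := hrot p hp
      obtain ⟨l, hl⟩ := hrot q hq
      have hord : ∀ {z : S} {i : ZMod m}, orderOf z = 2 → e z = DihedralGroup.r i →
          e z ∈ zpowers (DihedralGroup.r (1 : ZMod m)) := fun {z i} _ hz => by
        rw [hz]; exact ⟨(i.val : ℤ), by
          show (DihedralGroup.r 1) ^ (i.val : ℤ) = _
          rw [zpow_natCast, DihedralGroup.r_one_pow, ZMod.natCast_zmod_val]⟩
      exact hpq (e.injective (KleinSimple.eq_of_orderOf_two (isOfFinOrder_of_finite _)
        (hord hp2 hi) (hord hq2 hl) (by rw [MulEquiv.orderOf_eq, hp2]) (by rw [MulEquiv.orderOf_eq, hq2])))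
    obtain ⟨i, hi⟩ := hcases x hx hxV
    obtain ⟨l, hl⟩ := hcases y hy hyV
    have hodd : ∀ {u : S} {i : ZMod m}, (∀ v ∈ V, ¬ IsConj v u) → e u = DihedralGroup.sr i →
        ∃ j, i = i₀ + 2 * j + 1 := by
      intro u i huV hu
      obtain ⟨j, hj | hj⟩ := zmod_parity (i - i₀)
      · exfalso
        refine huV v₀ hv₀ ?_
        have h := e.symm.toMonoidHom.map_isConj (dihedral_conj i₀ j)
        rw [← hj, add_sub_cancel, ← hu, ← hi₀] at h
        simpa using h
      · exact ⟨j, by rw [add_assoc, ← hj, add_sub_cancel]⟩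
    obtain ⟨j, rfl⟩ := hodd hxV hi
    obtain ⟨j', rfl⟩ := hodd hyV hl
    have h := e.symm.toMonoidHom.map_isConj (dihedral_conj (i₀ + 2 * j + 1) (j' - j))
    rw [← hi, show i₀ + 2 * j + 1 + 2 * (j' - j) = i₀ + 2 * j' + 1 by ring, ← hl] at h
    simpa using h
  · obtain ⟨n, ⟨d⟩⟩ := QDWreath.nonempty_qdData hqd
    have hhalf : ∀ u : S, u * u = 1 → (∀ v ∈ V, ¬ IsConj v u) → ∃ c, u = d.b (2 * c) := by
      intro u hu huV
      have hu1 : u ≠ 1 := fun e => huV 1 (one_mem V) (e ▸ IsConj.refl _)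
      refine (d.orderOf_eq_two_cases (orderOf_eq_prime (by rw [pow_two]; exact hu) hu1)).resolve_left ?_
      rintro rfl
      refine huV _ (hmem _ fun v _ => ?_) (IsConj.refl _)
      rcases d.cases v with ⟨l, rfl⟩ | ⟨l, rfl⟩
      · rw [d.a_mul_a, d.a_mul_a, add_comm]
      · rw [d.a_mul_b, d.b_mul_a]
        congr 1
        unfold QDWreath.QDData.rexp
        linear_combination -d.half_sq + QDWreath.half_mul_two d.one_le
    obtain ⟨c, rfl⟩ := hhalf x hx hxV
    obtain ⟨c', rfl⟩ := hhalf y hy hyV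
    obtain ⟨g, hg⟩ := d.exists_conj_b (2 * c) (c' - c)
    exact isConj_iff.2 ⟨d.a g, hg.trans (by congr 1; ring)⟩

/-- Outside the class of a self-centralizing four group there is at most one class of involutions. -/
theorem two_classes {F : Type u} [Group F] [Finite F] {V : Subgroup F} (hV : IsKleinFour V)
    (hC : ∀ c : F, (∀ v ∈ V, c * v = v * c) → c ∈ V) {x y : F} (hx : x * x = 1) (hy : y * y = 1)
    (hxV : ∀ v ∈ V, ¬ IsConj v x) (hyV : ∀ v ∈ V, ¬ IsConj v y) : IsConj x y := by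
  have : Fact (Nat.Prime 2) := ⟨Nat.prime_two⟩
  obtain ⟨T, hT⟩ := (IsPGroup.of_card (n := 2) (show Nat.card V = 2 ^ 2 by rw [hV.card_four]; norm_num)).exists_le_sylow
  have hmove : ∀ {u : F}, u * u = 1 → ∃ g : F, g * u * g⁻¹ ∈ (T : Subgroup F) := by
    intro u hu
    have h2 : IsPGroup 2 (zpowers u) := fun z => ⟨1, Subtype.ext (by
      obtain ⟨i, hi⟩ := mem_zpowers_iff.1 z.2
      rw [pow_one, SubgroupClass.coe_pow, ← hi, ← zpow_natCast, ← zpow_mul, mul_comm, zpow_mul, zpow_natCast,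
        pow_two, hu, one_zpow]
      rfl)⟩
    obtain ⟨R, hR⟩ := h2.exists_le_sylow
    obtain ⟨g, hg⟩ := MulAction.exists_smul_eq F R T
    refine ⟨g, ?_⟩
    rw [← hg, Sylow.coe_subgroup_smul]
    exact ⟨u, hR (mem_zpowers u), rfl⟩
  obtain ⟨g, hg⟩ := hmove hx
  obtain ⟨g', hg'⟩ := hmove hy
  have hiso := (subgroupOfEquivOfLe hT).symm
  have hmiss : ∀ {u : F} {g : F} (h : g * u * g⁻¹ ∈ (T : Subgroup F)), (∀ v ∈ V, ¬ IsConj v u) →
      ∀ v ∈ V.subgroupOf (T : Subgroup F), ¬ IsConj v (⟨_, h⟩ : (T : Subgroup F)) := fun {u g} h hu v hv hc =>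
    hu v hv (((T : Subgroup F).subtype.map_isConj hc).trans (isConj_iff.2 ⟨g⁻¹, by show g⁻¹ * (g * u * g⁻¹) * g⁻¹⁻¹ = u; group⟩))
  have hcen : centralizer ((V.subgroupOf (T : Subgroup F) : Subgroup (T : Subgroup F)) :
      Set (T : Subgroup F)) = V.subgroupOf (T : Subgroup F) :=
    le_antisymm (by
      intro c hc
      exact mem_subgroupOf.2 (hC (c : F) fun v hv =>
        (congrArg Subtype.val (mem_centralizer_iff.1 hc ⟨v, hT hv⟩ (mem_subgroupOf.2 hv))).symm)) (by
      intro c hc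
      exact mem_centralizer_iff.2 fun v hv => Subtype.ext
        (congrArg Subtype.val (hV.isMulCommutative.is_comm.comm ⟨(v : F), mem_subgroupOf.1 hv⟩
          ⟨(c : F), mem_subgroupOf.1 hc⟩) :))
  have h := isConj_of_missing T.isPGroup' (Transfer.isKleinFour_congr hiso hV) hcen
    (x := ⟨_, hg⟩) (y := ⟨_, hg'⟩)
    (Subtype.ext (by show g * x * g⁻¹ * (g * x * g⁻¹) = 1; rw [conj_mul, hx, mul_one, mul_inv_cancel]))
    (Subtype.ext (by show g' * y * g'⁻¹ * (g' * y * g'⁻¹) = 1; rw [conj_mul, hy, mul_one, mul_inv_cancel]))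
    (hmiss hg hxV) (hmiss hg' hyV)
  exact ((isConj_iff.2 ⟨g, rfl⟩).trans ((T : Subgroup F).subtype.map_isConj h)).trans
    (isConj_iff.2 ⟨g', rfl⟩).symm

end Cfsg.Agent.PSpThreeReal
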