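import Cfsg.Agent.Lib.PSpThreeReal.Large.Side
import Cfsg.Agent.Lib.PSpThreeReal.Large.Four

/-!
# The two parts commute

* `congGrp`: the elements fixing the sign and centralizing a subgroup modulo it
* `Side.cong_le`: the structure of the group of a part
* `Big.parts_commute`, `Big.base`: the elementary abelian group of order 32 in the centralizer of the sign
* `Big.cong_le_base`: elements centralizing a part modulo the sign
-/

set_option autoImplicit false
set_option maxRecDepth 100000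
set_option maxHeartbeats 1000000
set_option synthInstance.maxSize 8000
set_option synthInstance.maxHeartbeats 200000

namespace Cfsg.Agent.PSpThreeReal

open Cfsg Subgroup
open SymNineThree
open Six (c012 c345 flip6)
open ThreeCubedSymFour (V3)
open Equiv (Perm swap)

theorem eight_cent : ∀ σ : Perm (Fin 6), σ * swap 4 5 = swap 4 5 * σ →
    (∀ τ ∈ eight, σ * τ * σ⁻¹ * τ⁻¹ = 1 ∨ σ * τ * σ⁻¹ * τ⁻¹ = swap 4 5) → σ ∈ eight := by
  decide +kernel

theorem eight_span : (∀ σ ∈ eight, σ = 1 ∨ σ = swap 4 5 ∨ ∀ τ ∈ eight,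
      τ = 1 ∨ τ = swap 4 5 ∨ τ = σ ∨ τ = σ * swap 4 5 ∨ τ = c012 * σ * c012⁻¹ ∨
      τ = c012 * σ * c012⁻¹ * swap 4 5 ∨ τ = σ * (c012 * σ * c012⁻¹) ∨
      τ = σ * (c012 * σ * c012⁻¹) * swap 4 5) ∧
    (∀ σ ∈ eight, ∃ τ ∈ eight, c012 * τ * c012⁻¹ ∈ eight ∧
      (σ = τ * (c012 * τ * c012⁻¹) ∨ σ = τ * (c012 * τ * c012⁻¹) * swap 4 5)) := by decide +kernel

theorem eight_classes : ∀ σ ∈ eight, σ = 1 ∨ σ = swap 4 5 ∨
    ((∃ τ : Perm (Fin 6), τ * (swap 1 2 * swap 4 5) * τ⁻¹ = σ) ∧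
      ∃ τ : Perm (Fin 6), τ * flip6 * τ⁻¹ = σ * swap 4 5) ∨
    ((∃ τ : Perm (Fin 6), τ * flip6 * τ⁻¹ = σ) ∧
      ∃ τ : Perm (Fin 6), τ * (swap 1 2 * swap 4 5) * τ⁻¹ = σ * swap 4 5) := by decide +kernel

universe u

variable {G : Type u} [Group G] {W : Subgroup Mon} {j : Multiplicative V3 →* G} {s : W →* G}
  {P : Pre G} {φ : Perm (Fin 6) →* G}

/-- The elements commuting with `r` that centralize `K` modulo `r`. -/
def congGrp (r : G) (K : Subgroup G) : Subgroup G where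
  carrier := {g | Commute g r ∧ ∀ k ∈ K, g * k * g⁻¹ * k⁻¹ ∈ zpowers r}
  one_mem' := ⟨Commute.one_left r, fun k _ => by
    rw [one_mul, inv_one, mul_one, mul_inv_cancel]; exact one_mem _⟩
  mul_mem' := fun {g h} hg hh => ⟨hg.1.mul_left hh.1, fun k hk => by
    obtain ⟨i, hi⟩ := mem_zpowers_iff.1 (hh.2 k hk)
    rw [show g * h * k * (g * h)⁻¹ * k⁻¹ = g * (h * k * h⁻¹ * k⁻¹) * g⁻¹ * (g * k * g⁻¹ * k⁻¹) by group,
      ← hi, (hg.1.zpow_right i).eq, mul_inv_cancel_right]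
    exact mul_mem (zpow_mem (mem_zpowers r) i) (hg.2 k hk)⟩
  inv_mem' := fun {g} hg => ⟨hg.1.inv_left, fun k hk => by
    obtain ⟨i, hi⟩ := mem_zpowers_iff.1 (hg.2 k hk)
    rw [show g⁻¹ * k * g⁻¹⁻¹ * k⁻¹ = g⁻¹ * (g * k * g⁻¹ * k⁻¹)⁻¹ * g by group, ← hi,
      ((hg.1.inv_left.zpow_right i).inv_right).eq, inv_mul_cancel_right]
    exact inv_mem (zpow_mem (mem_zpowers r) i)⟩

theorem mem_congGrp {r : G} {K : Subgroup G} {g : G} :
    g ∈ congGrp r K ↔ Commute g r ∧ ∀ k ∈ K, g * k * g⁻¹ * k⁻¹ ∈ zpowers r := Iff.rfl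

theorem mem_zpowers_two {r g : G} (h : r * r = 1) (hg : g ∈ zpowers r) : g = 1 ∨ g = r := by
  obtain ⟨i, rfl⟩ := mem_zpowers_iff.1 hg
  rcases Int.even_or_odd i with ⟨l, rfl⟩ | ⟨l, rfl⟩
  · left; rw [← two_mul, zpow_mul, zpow_two, h, one_zpow]
  · right; rw [zpow_add_one, zpow_mul, zpow_two, h, one_zpow, one_mul]

theorem Real.sign_sq (E : Real W j s 3 P) (m : Mon) (h : m * m = 1) :
    el j s 0 m * el j s 0 m = 1 := by
  rw [E.el_zero_mul (E.mem' _) (E.mem' _), h, el_zero_one]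

theorem Big.class_facts [Finite G] (E : Real W j s 3 P) (B : Big W j s φ) (x : G) :
    (Trv W j s x → ¬ Pt W j s x) ∧ (Dbl W j s x → ¬ Pt W j s x) ∧ (Neg W j s x → ¬ Pt W j s x) ∧
      (Dbl W j s x → ¬ Trv W j s x) ∧ (Neg W j s x → ¬ Trv W j s x) ∧ (Neg W j s x → ¬ Dbl W j s x) := by
  obtain ⟨h1, h2, h3, -, h4, h5, h6⟩ := B.separated E
  exact ⟨fun h hp => h1 (hp.conj h.symm), fun h hp => h2 (hp.conj h.symm), fun h hp => h3 (hp.conj h.symm),
    fun h h' => h4 (h'.trans h.symm), fun h h' => h5 (h'.trans h.symm), fun h h' => h6 (h'.trans h.symm)⟩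

section

variable {e e' : V3} {m m' : Mon} {ψ : Perm (Fin 6) →* G} [Finite G]

theorem Side.part_class (E : Real W j s 3 P) (B : Big W j s φ) (S : Side W j s φ e e' m m' ψ)
    {σ : Perm (Fin 6)} (hσ : σ ∈ eight) (h1 : σ ≠ 1) (h45 : σ ≠ swap 4 5) :
    ((Dbl W j s (ψ σ) ∧ Pt W j s (ψ σ * el j s 0 eA)) ∨ (Pt W j s (ψ σ) ∧ Dbl W j s (ψ σ * el j s 0 eA))) ∧
      Neg W j s (ψ σ * el j s 0 m) ∧ Neg W j s (ψ σ * el j s 0 eA * el j s 0 m) := by
  have hpt : ∀ τ, (∃ c : Perm (Fin 6), c * flip6 * c⁻¹ = τ) →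
      Pt W j s (ψ τ) ∧ Neg W j s (ψ τ * el j s 0 m) := fun τ h =>
    ⟨((E.pt_of_fix tau_facts.2.1).conj (B.conj_triple (isConj_iff.2 h))).conj (S.isConj_phi τ).1,
      (B.mul_sign_triple E (isConj_iff.2 h)).trans (S.isConj_phi τ).2⟩
  have hdb : ∀ τ, (∃ c : Perm (Fin 6), c * (swap 1 2 * swap 4 5) * c⁻¹ = τ) →
      Dbl W j s (ψ τ) ∧ Neg W j s (ψ τ * el j s 0 m) := fun τ h =>
    ⟨(B.conj_double E (isConj_iff.2 h)).trans (S.isConj_phi τ).1,
      (B.mul_sign_double E (isConj_iff.2 h)).trans (S.isConj_phi τ).2⟩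
  rw [← S.sign, ← map_mul]
  rcases eight_classes σ hσ with h | h | ⟨ha, hb⟩ | ⟨ha, hb⟩
  · exact absurd h h1
  · exact absurd h h45
  · exact ⟨Or.inl ⟨(hdb _ ha).1, (hpt _ hb).1⟩, (hdb _ ha).2, (hpt _ hb).2⟩
  · exact ⟨Or.inr ⟨(hpt _ ha).1, (hdb _ hb).1⟩, (hpt _ ha).2, (hdb _ hb).2⟩

omit [Finite G] in
theorem Side.axis_mem_cong (E : Real W j s 3 P) (B : Big W j s φ) (S : Side W j s φ e e' m m' ψ) :
    el j s e 1 ∈ congGrp (el j s 0 eA) S.part ∧ el j s 0 m ∈ congGrp (el j s 0 eA) S.part := by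
  obtain ⟨-, he, -, -, -, -, -, -, -, hm⟩ := S.axis_facts
  have h : ∀ {g : G}, Commute g (el j s 0 eA) → (∀ σ, Commute g (ψ σ)) →
      g ∈ congGrp (el j s 0 eA) S.part := fun {g} hr hg => ⟨hr, fun k hk => by
    obtain ⟨σ, -, rfl⟩ := S.mem_part.1 hk
    rw [(hg σ).eq, mul_inv_cancel_right, mul_inv_cancel]
    exact one_mem _⟩
  refine ⟨h ((E.el_comm_space (E.mem' _)).2 he).symm fun σ => (S.comm σ).symm, h ?_ fun σ => (S.sign_comm B σ).symm⟩
  show _ = _
  rw [E.el_zero_mul (E.mem' _) (E.mem' _), E.el_zero_mul (E.mem' _) (E.mem' _), hm]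

omit [Finite G] in
theorem Side.cong_axis (E : Real W j s 3 P) (B : Big W j s φ) (S : Side W j s φ e e' m m' ψ) {g : G}
    (hg : g ∈ congGrp (el j s 0 eA) S.part) (he : Commute g (el j s e 1)) :
    ∃ i : ℕ, ∃ k ∈ S.part, g = el j s e 1 ^ i * k := by
  obtain ⟨i, σ, rfl, hσ⟩ := S.cent_sign B he hg.1
  refine ⟨i, ψ σ, ⟨σ, eight_cent σ hσ fun τ hτ => ?_, rfl⟩, rfl⟩
  have h := hg.2 (ψ τ) ⟨τ, hτ, rfl⟩
  set a := el j s e 1 ^ i
  have ha : ∀ ρ, Commute a (ψ ρ) := fun ρ => (S.comm ρ).symm.pow_left i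
  rw [show a * ψ σ * ψ τ * (a * ψ σ)⁻¹ * (ψ τ)⁻¹ = a * (ψ σ * ψ τ * (ψ σ)⁻¹) * a⁻¹ * (ψ τ)⁻¹ by group,
    ← map_inv ψ σ, ← map_mul, ← map_mul, (ha _).eq, mul_inv_cancel_right, ← map_inv ψ τ, ← map_mul] at h
  rcases mem_zpowers_two (E.sign_sq _ (by decide +kernel)) h with e | e
  · exact Or.inl (S.inj B (e.trans (map_one ψ).symm))
  · exact Or.inr (S.inj B (e.trans S.sign.symm))

omit [Finite G] in
theorem Side.other_not_mem (E : Real W j s 3 P) (B : Big W j s φ) (S : Side W j s φ e e' m m' ψ) :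
    el j s e' 1 ∉ congGrp (el j s 0 eA) S.part := fun h => by
  have h' := h.2 (ψ (swap 0 3 * swap 1 2)) ⟨_, (by show _ ∈ eight; decide +kernel), rfl⟩
  rw [← S.other, ← map_inv, ← map_mul, ← map_mul, ← map_inv, ← map_mul] at h'
  rcases mem_zpowers_two (E.sign_sq _ (by decide +kernel)) h' with e | e
  · exact absurd (S.inj B (e.trans (map_one ψ).symm)) (by decide +kernel)
  · exact absurd (S.inj B (e.trans S.sign.symm)) (by decide +kernel)

theorem Side.plane_le_normalizer (E : Real W j s 3 P) (S : Side W j s φ e e' m m' ψ) :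
    planeSub j (fixMap eA) ≤ normalizer (congGrp (el j s 0 eA) S.part : Set G) := by
  intro p hp
  obtain ⟨v, hv, rfl⟩ := E.exists_planeSub hp
  set r := el j s 0 eA
  have hpr : Commute (el j s v 1) r := ((E.el_comm_space (E.mem' _)).2 (fixMap_eq_zero.1 hv)).symm
  -- the plane normalizes the part
  have hpart : el j s v 1 ∈ normalizer (S.part : Set G) := by
    obtain ⟨-, -, -, -, -, he1, he1', -⟩ := S.axis_facts
    have hax : el j s e 1 ∈ normalizer (S.part : Set G) :=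
      mem_normalizer_iff.2 fun x => by
        constructor <;> intro hx
        · obtain ⟨σ, hσ, rfl⟩ := S.mem_part.1 hx
          rw [((S.comm σ).symm).eq, mul_inv_cancel_right]; exact ⟨σ, hσ, rfl⟩
        · obtain ⟨σ, hσ, h⟩ := S.mem_part.1 hx
          rw [show x = (el j s e 1)⁻¹ * ψ σ * el j s e 1 by rw [h]; group, mul_assoc, (S.comm σ).eq,
            inv_mul_cancel_left]
          exact ⟨σ, hσ, rfl⟩
    have hax' : el j s e' 1 ∈ normalizer (S.part : Set G) := by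
      rw [← S.other]
      refine mem_normalizer_iff_map_conj_eq.2 (eq_of_le_of_card_ge ?_
        (by rw [card_map_of_injective (MulAut.conj (ψ c012)).injective]))
      rintro _ ⟨x, hx, rfl⟩
      obtain ⟨σ, hσ, rfl⟩ := S.mem_part.1 hx
      refine ⟨c012 * σ * c012⁻¹, (by decide +kernel : ∀ σ ∈ eight, c012 * σ * c012⁻¹ ∈ eight) σ hσ, ?_⟩
      rw [map_mul, map_mul, map_inv]; rfl
    have hsplit : ∀ e e' v : V3, ((e = p2 ∧ e' = p3) ∨ (e = p3 ∧ e' = p2)) → v.1 = 0 →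
        ∃ a < 3, ∃ b < 3, v = a • e + b • e' := by decide +kernel
    obtain ⟨a, -, b, -, hab⟩ := hsplit e e' v
      (S.axes.imp (fun h => ⟨h.1, h.2.1⟩) fun h => ⟨h.1, h.2.1⟩) ((E.mem_plane23).1 hp)
    have hel : ∀ (u : V3) (n : ℕ), el j s (n • u) 1 = el j s u 1 ^ n := fun u n => by
      rw [el_one_right, el_one_right, ← map_pow, ofAdd_nsmul]
    rw [hab, show el j s (a • e + b • e') 1 = el j s (a • e) 1 * el j s (b • e') 1 by
      rw [E.el_mul (one_mem W) (one_mem W), act_one, one_mul], hel, hel]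
    exact mul_mem (pow_mem hax a) (pow_mem hax' b)
  refine mem_normalizer_iff_map_conj_eq.2 (eq_of_le_of_card_ge ?_
    (by rw [card_map_of_injective (MulAut.conj (el j s v 1)).injective]))
  rintro _ ⟨g, hg, rfl⟩
  set p := el j s v 1
  have hr' : p * r * p⁻¹ = r := by rw [hpr.eq, mul_inv_cancel_right]
  refine ⟨?_, fun k hk => ?_⟩
  · have := hg.1.map (MulAut.conj p).toMonoidHom
    show Commute (p * g * p⁻¹) r
    rw [← hr']; exact this
  · have hk' : p⁻¹ * k * p ∈ S.part := (mem_normalizer_iff.1 hpart _).2 (by simpa [mul_assoc] using hk)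
    obtain ⟨i, hi⟩ := mem_zpowers_iff.1 (hg.2 _ hk')
    refine mem_zpowers_iff.2 ⟨i, ?_⟩
    show r ^ i = p * g * p⁻¹ * k * (p * g * p⁻¹)⁻¹ * k⁻¹
    have e : p * (g * (p⁻¹ * k * p) * g⁻¹ * (p⁻¹ * k * p)⁻¹) * p⁻¹ = r ^ i := by
      rw [← hi, ← conj_zpow, hr']
    rw [← e]; group

/-- The structure of the group of a part. -/
theorem Side.cong_le (E : Real W j s 3 P) (B : Big W j s φ) (S : Side W j s φ e e' m m' ψ)
    {Ω : Subgroup G} (hcomm : ∀ x ∈ Ω, ∀ y ∈ Ω, x * y = y * x) (hsq : ∀ x ∈ Ω, x * x = 1)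
    (hpart : S.part ≤ Ω) (hS : Sig (planeSub j (fixMap eA)) (congGrp (el j s 0 eA) S.part) Ω) :
    congGrp (el j s 0 eA) S.part ≤ Ω ⊔ zpowers (el j s e 1) ⊔ zpowers (el j s 0 m) := by
  have : Fact (Nat.Prime 3) := ⟨Nat.prime_three⟩
  set r := el j s 0 eA
  set A := planeSub j (fixMap eA)
  set X := congGrp r S.part
  set a := el j s e 1
  obtain ⟨he0, hfix, -, hme, -⟩ := S.axis_facts
  obtain ⟨haX, hmX⟩ := S.axis_mem_cong E B
  have ha3 : a ^ 3 = 1 := E.space_cube (el_mem_range e)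
  have ha1 : a ≠ 1 := fun h => he0 ((E.el_eq_one_iff (one_mem W)).1 h).1
  have hΩ2 : IsPGroup 2 Ω := fun x => ⟨1, Subtype.ext (by
    rw [pow_one, SubgroupClass.coe_pow, pow_two]; exact hsq x x.2)⟩
  have hXn : X ≤ normalizer (S.part : Set G) := fun g hg => by
    refine mem_normalizer_iff_map_conj_eq.2 (eq_of_le_of_card_ge ?_
      (by rw [card_map_of_injective (MulAut.conj g).injective]))
    rintro _ ⟨k, hk, rfl⟩
    show g * k * g⁻¹ ∈ S.part
    have := mul_mem (zpowers_le.2 S.sign_mem_part (hg.2 k hk)) hk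
    rwa [inv_mul_cancel_right] at this
  have hpX : S.part ≤ X := fun k hk => ⟨(S.part_sq hk S.sign_mem_part).1, fun l hl => by
    rw [(S.part_sq hk hl).1, mul_inv_cancel_right, mul_inv_cancel]; exact one_mem _⟩
  -- nine does not divide the order
  have h9 : ¬ 9 ∣ Nat.card X := by
    intro h9
    obtain ⟨hAC, hidx⟩ := E.sign_index
    set N := X ⊔ A
    have hAX : A ≤ normalizer (X : Set G) := S.plane_le_normalizer E
    have hNC : N ≤ centralizer ({r} : Set G) :=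
      sup_le (fun g hg => mem_centralizer_singleton_iff.2 hg.1.eq) hAC
    have hidxN : ¬ 3 ∣ (A.subgroupOf N).index := fun h =>
      hidx (h.trans (by
        show A.relIndex N ∣ A.relIndex (centralizer {r})
        exact ⟨_, (relIndex_mul_relIndex A N _ le_sup_right hNC).symm⟩))
    obtain ⟨Q, hQ⟩ := Sylow.exists_subgroup_card_pow_prime 3 (G := X) (n := 2) (by norm_num; exact h9)
    set Q' := Q.map X.subtype
    have hQ9 : Nat.card Q' = 3 ^ 2 := by rw [card_map_of_injective X.subtype_injective, hQ]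
    obtain ⟨c, hc, hcQ⟩ := conj_into le_sup_right (E.space_isPGroup.to_le (planeSub_le _)) hidxN
      (IsPGroup.of_card hQ9) ((map_subtype_le Q).trans le_sup_left)
    have hA9 : Nat.card A = 9 := by
      rw [E.card_planeSub, Finset.filter_congr fun u _ => fixMap_eq_zero]; decide +kernel
    have hXN : N ≤ normalizer (X : Set G) := sup_le le_normalizer hAX
    have heq : Q'.map (MulAut.conj c).toMonoidHom = A := by
      refine eq_of_le_of_card_ge ?_ (by
        rw [card_map_of_injective (MulAut.conj c).injective, hQ9, hA9]; norm_num)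
      rintro _ ⟨q, hq, rfl⟩
      exact hcQ q hq
    refine S.other_not_mem E B ?_
    obtain ⟨q, hq, hq'⟩ : el j s e' 1 ∈ Q'.map (MulAut.conj c).toMonoidHom := by
      rw [heq]; exact E.mem_plane23.2 S.axis_facts.2.2.2.2.2.2.1
    rw [← hq']
    exact (mem_normalizer_iff.1 (hXN hc) q).1 (map_subtype_le Q hq)
  obtain ⟨O, hOX, hOΩ, hpO, hOn, hcyc⟩ := self_cent_three (E.space_isPGroup.to_le (planeSub_le _)) hΩ2 hS le_rfl
    (S.plane_le_normalizer E) hpX hXn (by rw [S.card_part B]; norm_num) haX (orderOf_eq_prime ha3 ha1) h9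
    fun g hg hga => by
      obtain ⟨i, k, hk, rfl⟩ := S.cong_axis E B hg hga
      refine ⟨2 * i, ?_⟩
      obtain ⟨σ, -, rfl⟩ := S.mem_part.1 hk
      rw [((S.comm σ).symm.pow_left i).eq, mul_assoc, ← pow_add, show i + 2 * i = 3 * i by ring, pow_mul, ha3,
        one_pow, mul_one]
      exact hk
  intro g hg
  set T := Ω ⊔ zpowers a ⊔ zpowers (el j s 0 m)
  have haT : a ∈ T := mem_sup_left (mem_sup_right (mem_zpowers a))
  have hmT : el j s 0 m ∈ T := mem_sup_right (mem_zpowers _)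
  have hΩT : Ω ≤ T := le_trans le_sup_left le_sup_left
  obtain ⟨i, hi⟩ := hcyc (g * a * g⁻¹) (mul_mem (mul_mem hg haX) (inv_mem hg))
    (by rw [conj_pow, ha3, mul_one, mul_inv_cancel])
  obtain ⟨l, hl3, hla, o, ho, hz⟩ : ∃ l, l ^ 3 = 1 ∧ (l = a ∨ l = a⁻¹) ∧ ∃ o ∈ O, g * a * g⁻¹ = o * l := by
    have hz3 : (g * a * g⁻¹) ^ 3 = 1 := by rw [conj_pow, ha3, mul_one, mul_inv_cancel]
    have hz1 : g * a * g⁻¹ ≠ 1 := fun h => ha1 (conj_eq_one_iff.1 h)
    have hmod : a ^ i = a ^ (i % 3) := by conv_lhs => rw [← Nat.mod_add_div i 3, pow_add, pow_mul, ha3, one_pow, mul_one]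
    rw [hmod] at hi
    rcases (show i % 3 = 0 ∨ i % 3 = 1 ∨ i % 3 = 2 by omega) with h | h | h <;> rw [h] at hi
    · rw [pow_zero, mul_one] at hi
      have h2 := hsq _ (hOΩ hi)
      rw [pow_three, h2, mul_one] at hz3
      exact absurd hz3 hz1
    · rw [pow_one] at hi
      exact ⟨a⁻¹, by rw [inv_pow, ha3, inv_one], Or.inr rfl, _, hi, by group⟩
    · refine ⟨a, ha3, Or.inl rfl, _, hi, ?_⟩
      rw [mul_assoc (g * a * g⁻¹), ← pow_succ, ha3, mul_one]
  have hlX : l ∈ X := by rcases hla with rfl | rfl; exacts [haX, inv_mem haX]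
  have hconj : ∀ x ∈ O, l * x * l⁻¹ ∈ O := fun x hx =>
    (mem_normalizer_iff.1 (hOn l (le_normalizer hlX)) x).1 hx
  have hu : l * o * l⁻¹ ∈ O := hconj o ho
  have hu2 : l * (l * o * l⁻¹) * l⁻¹ ∈ O := hconj _ hu
  set u := l * o * l⁻¹
  have hu' : u⁻¹ = u := inv_eq_of_mul_eq_one_right (hsq _ (hOΩ hu))
  have ho' : o⁻¹ = o := inv_eq_of_mul_eq_one_right (hsq _ (hOΩ ho))
  have hll : l⁻¹ = l * l := inv_eq_of_mul_eq_one_right (by rw [← pow_three, hl3])
  -- the product of the three translates is trivial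
  have hprod : o * (u * (l * u * l⁻¹)) = 1 := by
    have h3 : (o * l) ^ 3 = 1 := by rw [← hz, conj_pow, ha3, mul_one, mul_inv_cancel]
    calc o * (u * (l * u * l⁻¹)) = (o * l) ^ 3 * (l * l * l)⁻¹ := by
          simp only [u, pow_three]; group
      _ = 1 := by rw [h3, one_mul, mul_assoc, ← pow_three, hl3, inv_one]
  have huu : u * (l * u * l⁻¹) = o := by
    rw [eq_inv_of_mul_eq_one_right hprod, ho']
  have hmove : u⁻¹ * (g * a * g⁻¹) * u = l := by
    have hcm : l * u * l⁻¹ * u = u * (l * u * l⁻¹) := hcomm _ (hOΩ hu2) _ (hOΩ hu)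
    calc u⁻¹ * (g * a * g⁻¹) * u = u⁻¹ * (o * (l * u * l⁻¹)) * l := by rw [hz]; group
      _ = u⁻¹ * (u * (l * u * l⁻¹) * (l * u * l⁻¹)) * l := by rw [huu]
      _ = l * u * l⁻¹ * (l * u * l⁻¹) * l := by group
      _ = l := by rw [hsq _ (hOΩ hu2), one_mul]
  have hg' : u⁻¹ * g ∈ X := mul_mem (inv_mem (hOX hu)) hg
  have hfin : ∀ h ∈ X, h * a * h⁻¹ = a → h ∈ T := fun h hh he => by
    obtain ⟨b, k, hk, rfl⟩ := S.cong_axis E B hh (mul_inv_eq_iff_eq_mul.1 he)
    exact mul_mem (pow_mem haT b) (hΩT (hpart hk))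
  have hconj' : u⁻¹ * g * a * (u⁻¹ * g)⁻¹ = l := by rw [← hmove]; group
  have hmem : u⁻¹ * g ∈ T := by
    rcases hla with rfl | rfl
    · exact hfin _ hg' hconj'
    · have hinv : el j s 0 m * a⁻¹ * (el j s 0 m)⁻¹ = a := by
        show el j s 0 m * (el j s e 1)⁻¹ * (el j s 0 m)⁻¹ = el j s e 1
        rw [← conj_inv, E.el_conj (E.mem' _), hme, E.el_inv (one_mem W), inv_one, act_one, neg_neg]
      have h := hfin (el j s 0 m * (u⁻¹ * g)) (mul_mem hmX hg') (by
        rw [show el j s 0 m * (u⁻¹ * g) * a * (el j s 0 m * (u⁻¹ * g))⁻¹ =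
          el j s 0 m * (u⁻¹ * g * a * (u⁻¹ * g)⁻¹) * (el j s 0 m)⁻¹ by group, hconj', hinv])
      have := mul_mem (inv_mem hmT) h
      rwa [inv_mul_cancel_left] at this
  have := mul_mem (hΩT (hOΩ hu)) hmem
  rwa [mul_inv_cancel_left] at this

end

theorem eight_transv : ∀ a ∈ ({swap 0 3 * swap 1 2} : Finset (Perm (Fin 6))), a ∈ eight ∧ a ≠ 1 ∧
    a ≠ swap 4 5 ∧ a * swap 1 2 = swap 1 2 * a ∧ a * swap 1 2 = swap 0 3 ∧
    a * swap 4 5 = swap 4 5 * a ∧ (∃ c : Perm (Fin 6), c * flip6 * c⁻¹ = a * swap 4 5) := by decide +kernel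

/-- The quotient of the common centralizer of two signs. -/
theorem sign_quotient {C : Subgroup G} {a b : G} (ha : a ∈ C) (hb : b ∈ C) (hca : ∀ c ∈ C, Commute c a)
    (hcb : ∀ c ∈ C, Commute c b) (ha2 : a * a = 1) (hb2 : b * b = 1) :
    ∃ (N : Subgroup C) (_ : N.Normal), ∀ c : C, c ∈ N ↔
      ((c : G) = 1 ∨ (c : G) = a ∨ (c : G) = b ∨ (c : G) = a * b) := by
  have hab : a * b = b * a := (hca b hb).eq.symm
  refine ⟨(zpowers a ⊔ zpowers b).subgroupOf C, ⟨fun x hx g => ?_⟩, fun c => ⟨fun hc => ?_, fun hc => ?_⟩⟩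
  · have hcen : ∀ y ∈ zpowers a ⊔ zpowers b, (g : G) * y * (g : G)⁻¹ = y := fun y hy => by
      have h : zpowers a ⊔ zpowers b ≤ centralizer ({(g : G)} : Set G) :=
        sup_le (zpowers_le.2 (mem_centralizer_singleton_iff.2 (hca g g.2).eq.symm))
          (zpowers_le.2 (mem_centralizer_singleton_iff.2 (hcb g g.2).eq.symm))
      rw [← mem_centralizer_singleton_iff.1 (h hy), mul_inv_cancel_right]
    rw [mem_subgroupOf] at hx ⊢
    rw [Subgroup.coe_mul, Subgroup.coe_mul, Subgroup.coe_inv, hcen _ hx]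
    exact hx
  · have hn : zpowers a ≤ normalizer (zpowers b : Set G) := zpowers_le.2 (mem_normalizer_iff.2 fun y => by
      constructor <;> intro hy
      · have : Commute a y := by
          obtain ⟨i, rfl⟩ := mem_zpowers_iff.1 hy
          exact (show Commute a b from hab).zpow_right i
        rwa [this.eq, mul_inv_cancel_right]
      · have hyy : y = a⁻¹ * (a * y * a⁻¹) * a := by group
        have : Commute a (a * y * a⁻¹) := by
          obtain ⟨i, hi⟩ := mem_zpowers_iff.1 hy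
          rw [← hi]
          exact (show Commute a b from hab).zpow_right i
        rw [hyy, mul_assoc, ← this.eq, inv_mul_cancel_left]
        exact hy)
    obtain ⟨x, hx, y, hy, e⟩ := (Coprime.mem_sup_iff hn).1
      (show (c : G) ∈ zpowers b ⊔ zpowers a by rw [sup_comm]; exact mem_subgroupOf.1 hc)
    rcases mem_zpowers_two hb2 hx with rfl | rfl <;> rcases mem_zpowers_two ha2 hy with rfl | rfl <;>
      simp [← e, hab]
  · rw [mem_subgroupOf]
    rcases hc with e | e | e | e <;> rw [e]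
    · exact one_mem _
    · exact mem_sup_left (mem_zpowers a)
    · exact mem_sup_right (mem_zpowers b)
    · exact mul_mem (mem_sup_left (mem_zpowers a)) (mem_sup_right (mem_zpowers b))

set_option maxHeartbeats 4000000 in
/-- The third part centralizes the second modulo the sign. -/
theorem Big.part_le_cong [Finite G] (E : Real W j s 3 P) (B : Big W j s φ) :
    (B.side_three E).part ≤ congGrp (el j s 0 eA) (B.side_two E).part := by
  classical
  set S := B.side_two E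
  set S' := B.side_three E
  set ψ := psi2 j s φ
  set ψ' := psi3 j s φ
  set r := el j s 0 eA
  set X := congGrp r S.part
  by_contra hne
  have hr2 : r * r = 1 := E.sign_sq _ (by decide +kernel)
  -- the meet with the third part
  have hmeet : X ⊓ S'.part ≤ S.part := by
    rintro g ⟨hgX, hg⟩
    obtain ⟨σ, hσ, rfl⟩ := S'.mem_part.1 hg
    rcases eight_span.1 σ hσ with rfl | rfl | h
    · rw [map_one]; exact one_mem _
    · rw [S'.sign]; exact S.sign_mem_part
    exfalso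
    refine hne fun g hg' => ?_
    obtain ⟨τ, hτ, rfl⟩ := S'.mem_part.1 hg'
    have hc : ψ' c012 ∈ X := S'.other.symm ▸ (S.axis_mem_cong E B).1
    have hrX : r ∈ X := ⟨Commute.refl r, fun k hk => by
      rw [(S.part_sq S.sign_mem_part hk).1, mul_inv_cancel_right, mul_inv_cancel]; exact one_mem _⟩
    have h1 : ψ' (c012 * σ * c012⁻¹) ∈ X := by
      rw [map_mul, map_mul, map_inv]; exact mul_mem (mul_mem hc hgX) (inv_mem hc)
    rcases h τ hτ with rfl | rfl | rfl | rfl | rfl | rfl | rfl | rfl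
    · rw [map_one]; exact one_mem _
    · rw [S'.sign]; exact hrX
    · exact hgX
    · rw [map_mul, S'.sign]; exact mul_mem hgX hrX
    · exact h1
    · rw [map_mul, S'.sign]; exact mul_mem h1 hrX
    · rw [map_mul]; exact mul_mem hgX h1
    · rw [map_mul, map_mul, S'.sign]; exact mul_mem (mul_mem hgX h1) hrX
  have hsmall := S.cong_le E B (fun x hx y hy => (S.part_sq hx hy).1) (fun x hx => (S.part_sq hx hx).2) le_rfl
    (B.sig_of_sides E (fun g hg => mem_centralizer_singleton_iff.2 hg.1.eq) S.sign_mem_part inf_le_right hmeet)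
  -- the common centralizer of the two signs
  set r₂ := el j s 0 eB
  have hr22 : r₂ * r₂ = 1 := E.sign_sq _ (by decide +kernel)
  have hrr : Commute r r₂ := by
    show _ = _
    rw [E.el_zero_mul (E.mem' _) (E.mem' _), E.el_zero_mul (E.mem' _) (E.mem' _)]
    exact congrArg _ (by decide +kernel)
  set C := centralizer ({r} : Set G) ⊓ centralizer ({r₂} : Set G)
  have hC : ∀ {g : G}, g ∈ C ↔ Commute g r ∧ Commute g r₂ := fun {g} =>
    and_congr mem_centralizer_singleton_iff mem_centralizer_singleton_iff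
  obtain ⟨N, hN, hmemN⟩ := sign_quotient (C := C) (a := r) (b := r₂) (hC.2 ⟨Commute.refl r, hrr⟩)
    (hC.2 ⟨hrr.symm, Commute.refl r₂⟩) (fun c hc => (hC.1 hc).1) (fun c hc => (hC.1 hc).2) hr2 hr22
  set π := QuotientGroup.mk' N
  have hpC : S.part ≤ C := fun g hg => by
    obtain ⟨σ, hσ, rfl⟩ := S.mem_part.1 hg
    exact hC.2 ⟨(S.part_sq ⟨σ, hσ, rfl⟩ S.sign_mem_part).1, S.sign_comm B σ⟩
  have heq : ∀ {x y : C}, π x = π y → ((y : G) = x ∨ (y : G) = x * r ∨ (y : G) = x * r₂ ∨ (y : G) = x * (r * r₂)) := by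
    intro x y h
    have h' := (hmemN _).1 (QuotientGroup.eq.1 h)
    rw [Subgroup.coe_mul, Subgroup.coe_inv, inv_mul_eq_iff_eq_mul, inv_mul_eq_iff_eq_mul, inv_mul_eq_iff_eq_mul,
      inv_mul_eq_iff_eq_mul, mul_one] at h'
    exact h'
  set V := (S.part.subgroupOf C).map π
  -- classes of the lifts of the four group
  have hlift : ∀ {k : G}, k ∈ S.part → ∀ (hk : k ∈ C), π ⟨k, hk⟩ ≠ 1 →
      (¬ Trv W j s k ∧ ¬ Trv W j s (k * r) ∧ ¬ Trv W j s (k * r₂) ∧ ¬ Trv W j s (k * (r * r₂))) ∧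
      (Pt W j s k ∨ Pt W j s (k * r)) ∧ (Neg W j s (k * r₂) ∧ Neg W j s (k * (r * r₂))) ∧
      ¬ Neg W j s k := by
    intro k hk hkC h1
    obtain ⟨σ, hσ, rfl⟩ := S.mem_part.1 hk
    have hσ1 : σ ≠ 1 := by
      rintro rfl
      exact h1 ((QuotientGroup.eq_one_iff _).2 ((hmemN _).2 (Or.inl (map_one ψ))))
    have hσ45 : σ ≠ swap 4 5 := by
      rintro rfl
      exact h1 ((QuotientGroup.eq_one_iff _).2 ((hmemN _).2 (Or.inr (Or.inl S.sign))))
    obtain ⟨hd, hn, hn'⟩ := S.part_class E B hσ hσ1 hσ45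
    rw [mul_assoc] at hn'
    have f := B.class_facts E
    rcases hd with ⟨hd, hp⟩ | ⟨hp, hd⟩
    · exact ⟨⟨(f _).2.2.2.1 hd, fun h => (f _).1 h hp, (f _).2.2.2.2.1 hn, (f _).2.2.2.2.1 hn'⟩, Or.inr hp,
        ⟨hn, hn'⟩, fun h => (f _).2.2.2.2.2 h hd⟩
    · exact ⟨⟨fun h => (f _).1 h hp, (f _).2.2.2.1 hd, (f _).2.2.2.2.1 hn, (f _).2.2.2.2.1 hn'⟩, Or.inl hp,
        ⟨hn, hn'⟩, fun h => (f _).2.2.1 h hp⟩
  have hVmem : ∀ v ∈ V, ∃ k, ∃ (hk : k ∈ C), k ∈ S.part ∧ π ⟨k, hk⟩ = v := by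
    rintro _ ⟨k, hk, rfl⟩
    exact ⟨k, k.2, hk, rfl⟩
  have hr₂S : r₂ ∉ S.part := by
    intro h
    obtain ⟨σ, -, hσ⟩ := S.mem_part.1 h
    have key : ∀ τ, σ * τ = τ * σ := fun τ => S.inj B (by
      rw [map_mul, map_mul, hσ]; exact (S.sign_comm B τ).symm.eq)
    have h1 : σ = 1 := (by decide +kernel : ∀ σ : Perm (Fin 6), σ * swap 0 1 = swap 0 1 * σ →
      σ * swap 1 2 = swap 1 2 * σ → σ * swap 3 4 = swap 3 4 * σ → σ * swap 2 3 = swap 2 3 * σ →
      σ = 1) σ (key _) (key _) (key _) (key _)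
    rw [h1, map_one] at hσ
    exact absurd ((E.el_eq_one_iff (E.mem' _)).1 hσ.symm).2 (by decide +kernel)
  have hcardV : Nat.card V = 4 := by
    set f := π.comp (inclusion hpC)
    have hV' : V = f.range := by
      ext v
      constructor
      · rintro ⟨k, hk, rfl⟩; exact ⟨⟨k, hk⟩, rfl⟩
      · rintro ⟨k, rfl⟩; exact ⟨⟨k, hpC k.2⟩, k.2, rfl⟩
    have hker : f.ker = (zpowers r).subgroupOf S.part := by
      ext k
      rw [MonoidHom.mem_ker, mem_subgroupOf]
      refine (QuotientGroup.eq_one_iff _).trans ((hmemN _).trans ⟨fun h => ?_, fun h => ?_⟩)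
      · rcases h with e | e | e | e <;> simp only [coe_inclusion] at e
        · rw [e]; exact one_mem _
        · rw [e]; exact mem_zpowers r
        · exact absurd (e ▸ k.2) hr₂S
        · refine absurd ?_ hr₂S
          have := mul_mem S.sign_mem_part (e ▸ k.2 : r * r₂ ∈ S.part)
          rwa [← mul_assoc, hr2, one_mul] at this
      · rcases mem_zpowers_two hr2 h with e | e
        exacts [Or.inl e, Or.inr (Or.inl e)]
    have hr1 : r ≠ 1 := fun h => absurd ((E.el_eq_one_iff (E.mem' _)).1 h).2 (by decide +kernel)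
    have : Fact (Nat.Prime 2) := ⟨Nat.prime_two⟩
    have h := f.ker.card_mul_index
    rw [Subgroup.index_ker, S.card_part B, hker,
      Nat.card_congr (subgroupOfEquivOfLe (zpowers_le.2 S.sign_mem_part)).toEquiv, Nat.card_zpowers,
      orderOf_eq_prime (by rw [pow_two, hr2]) hr1, ← hV'] at h
    omega
  have hVsq : ∀ v ∈ V, v * v = 1 := fun v hv => by
    obtain ⟨k, hk, hkS, rfl⟩ := hVmem v hv
    rw [← map_mul, show (⟨k, hk⟩ : C) * ⟨k, hk⟩ = 1 from Subtype.ext (S.part_sq hkS hkS).2, map_one]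
  have : Nontrivial V := Finite.one_lt_card_iff_nontrivial.1 (by omega)
  have hVK : IsKleinFour V := ⟨hcardV, (Monoid.exponent_eq_prime_iff Nat.prime_two).2 ?_⟩
  swap
  · intro v hv
    refine orderOf_eq_prime ?_ hv
    rw [pow_two]; exact Subtype.ext (hVsq v v.2)
  -- it is self-centralizing
  have hself : ∀ c : C ⧸ N, (∀ v ∈ V, c * v = v * c) → c ∈ V := by
    intro c hc
    obtain ⟨g, rfl⟩ := QuotientGroup.mk'_surjective N c
    have hgX : (g : G) ∈ X := ⟨(hC.1 g.2).1, fun k hk => by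
      have h := heq (x := ⟨k, hpC hk⟩) (y := g * ⟨k, hpC hk⟩ * g⁻¹) (by
        rw [map_mul, map_mul, map_inv, hc _ ⟨_, mem_subgroupOf.2 hk, rfl⟩, mul_inv_cancel_right])
      simp only [Subgroup.coe_mul, Subgroup.coe_inv] at h
      by_cases h1 : π ⟨k, hpC hk⟩ = 1
      · rcases (hmemN _).1 ((QuotientGroup.eq_one_iff _).1 h1) with e | e | e | e <;> dsimp only at e
        · rw [e, mul_one, mul_inv_cancel, one_mul, inv_one]; exact one_mem _
        · rw [e, (hC.1 g.2).1.eq, mul_inv_cancel_right, mul_inv_cancel]; exact one_mem _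
        · exact absurd (e ▸ hk) hr₂S
        · refine absurd ?_ hr₂S
          have := mul_mem S.sign_mem_part (e ▸ hk : r * r₂ ∈ S.part)
          rwa [← mul_assoc, hr2, one_mul] at this
      obtain ⟨-, -, ⟨hn, hn'⟩, hk'⟩ := hlift hk (hpC hk) h1
      have hcj : IsConj k ((g : G) * k * (g : G)⁻¹) := isConj_iff.2 ⟨g, rfl⟩
      rcases h with e | e | e | e
      · rw [e, mul_inv_cancel]; exact one_mem _
      · rw [e, (S.part_sq hk S.sign_mem_part).1, mul_inv_cancel_right]; exact mem_zpowers r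
      · exact absurd (hn.trans (e ▸ hcj).symm) hk'
      · exact absurd (hn'.trans (e ▸ hcj).symm) hk'⟩
    have hY := hsmall hgX
    have ha : Commute (el j s p2 1) r := ((E.el_comm_space (E.mem' _)).2 (by decide +kernel)).symm
    -- an element `k * a ^ i * r₂ ^ l` commuting with `r₂` has `i = 0`
    obtain ⟨k, hk, b, hb, hgkb⟩ : ∃ k ∈ S.part, ∃ b, (b = 1 ∨ b = r₂) ∧ (g : G) = k * b := by
      have hn2 : zpowers r₂ ≤ normalizer ((S.part ⊔ zpowers (el j s p2 1) : Subgroup G) : Set G) := by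
        rw [zpowers_le]
        refine mem_normalizer_iff_map_conj_eq.2 (eq_of_le_of_card_ge ?_
          (by rw [card_map_of_injective (MulAut.conj r₂).injective]))
        rw [map_le_iff_le_comap, sup_le_iff, zpowers_le]
        constructor
        · intro x hx
          obtain ⟨σ, hσ, rfl⟩ := S.mem_part.1 hx
          refine mem_comap.2 ?_
          show r₂ * ψ σ * r₂⁻¹ ∈ _
          rw [((S.sign_comm B σ).symm).eq, mul_inv_cancel_right]
          exact mem_sup_left ⟨σ, hσ, rfl⟩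
        · refine mem_comap.2 ?_
          show r₂ * el j s p2 1 * r₂⁻¹ ∈ _
          rw [E.el_conj (E.mem' _), show act eB p2 = -p2 by decide +kernel,
            show el j s (-p2) 1 = (el j s p2 1)⁻¹ by rw [E.el_inv (one_mem W), inv_one, act_one]]
          exact mem_sup_right (inv_mem (mem_zpowers _))
      obtain ⟨x, hx, b, hb, hxb⟩ := (Coprime.mem_sup_iff hn2).1 hY
      have hn1 : zpowers (el j s p2 1) ≤ normalizer (S.part : Set G) := by
        rw [zpowers_le]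
        refine mem_normalizer_iff_map_conj_eq.2 (eq_of_le_of_card_ge ?_
          (by rw [card_map_of_injective (MulAut.conj (el j s p2 1)).injective]))
        rintro _ ⟨y, hy, rfl⟩
        obtain ⟨σ, hσ, rfl⟩ := S.mem_part.1 hy
        show el j s p2 1 * ψ σ * (el j s p2 1)⁻¹ ∈ _
        rw [((S.comm σ).symm).eq, mul_inv_cancel_right]
        exact ⟨σ, hσ, rfl⟩
      obtain ⟨k, hk, a', ha', hka⟩ := (Coprime.mem_sup_iff hn1).1 hx
      refine ⟨k, hk, b, mem_zpowers_two hr22 hb, ?_⟩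
      have hbc : Commute b r₂ := by
        rcases mem_zpowers_two hr22 hb with rfl | rfl
        exacts [Commute.one_left _, Commute.refl _]
      have hac : Commute a' r₂ := by
        have h1 : Commute (k⁻¹ * g * b⁻¹) r₂ :=
          (((hC.1 (hpC hk)).2.inv_left).mul_left (hC.1 g.2).2).mul_left hbc.inv_left
        rwa [show k⁻¹ * g * b⁻¹ = a' by rw [← hxb, ← hka]; group] at h1
      have ha1 : a' = 1 := by
        obtain ⟨i, rfl⟩ := mem_zpowers_iff.1 ha'
        have h1 : el j s p2 1 ^ i = (el j s p2 1 ^ i)⁻¹ := by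
          conv_lhs => rw [← mul_inv_cancel_right (el j s p2 1 ^ i) r₂, hac.eq, ← conj_zpow,
            E.el_conj (E.mem' _), show act eB p2 = -p2 by decide +kernel,
            show el j s (-p2) 1 = (el j s p2 1)⁻¹ by rw [E.el_inv (one_mem W), inv_one, act_one], inv_zpow]
        have h2 : el j s p2 1 ^ i * el j s p2 1 ^ i = 1 := by
          conv_lhs => arg 1; rw [h1]
          exact inv_mul_cancel _
        have h3 : (el j s p2 1 ^ i) ^ 3 = 1 := E.space_cube (zpow_mem (el_mem_range _) i)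
        rwa [pow_three, h2, mul_one] at h3
      rw [← hxb, ← hka, ha1, mul_one]
    refine ⟨⟨k, hpC hk⟩, mem_subgroupOf.2 hk, ?_⟩
    refine QuotientGroup.eq.2 ((hmemN _).2 ?_)
    rw [Subgroup.coe_mul, Subgroup.coe_inv, hgkb, inv_mul_cancel_left]
    rcases hb with rfl | rfl
    exacts [Or.inl rfl, Or.inr (Or.inr (Or.inl rfl))]
  -- the two further involutions
  obtain ⟨hk3e, hk31, hk345, hk3c, hk3p, hk3c', hk3t⟩ := eight_transv _ (Finset.mem_singleton_self _)
  set k₃ := ψ' (swap 0 3 * swap 1 2)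
  set r₃ := el j s 0 eC
  have hk3C : k₃ ∈ C := hC.2 ⟨(S'.part_sq ⟨_, hk3e, rfl⟩ S'.sign_mem_part).1, by
    show k₃ * r₂ = r₂ * k₃
    rw [show r₂ = ψ' (swap 1 2) from S'.otherSign.symm, ← map_mul, ← map_mul, hk3c]⟩
  have hr3C : r₃ ∈ C := hC.2 ⟨by
    show _ = _; rw [E.el_zero_mul (E.mem' _) (E.mem' _), E.el_zero_mul (E.mem' _) (E.mem' _)]
    exact congrArg _ (by decide +kernel), by
    show _ = _; rw [E.el_zero_mul (E.mem' _) (E.mem' _), E.el_zero_mul (E.mem' _) (E.mem' _)]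
    exact congrArg _ (by decide +kernel)⟩
  have hr3sq : r₃ * r₃ = 1 := E.sign_sq _ (by decide +kernel)
  have hk3trv : Trv W j s (k₃ * r₂) := by
    rw [show r₂ = ψ' (swap 1 2) from S'.otherSign.symm, ← map_mul, hk3p]
    exact (B.conj_swap E (by decide)).trans (S'.isConj_phi _).1
  have hk3pt : Pt W j s (k₃ * r) := by
    rw [show r = ψ' (swap 4 5) from S'.sign.symm, ← map_mul]
    exact ((E.pt_of_fix tau_facts.2.1).conj (B.conj_triple (isConj_iff.2 hk3t))).conj (S'.isConj_phi _).1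
  have hr3pt : ∀ z, z = r₃ ∨ z = r₃ * r ∨ z = r₃ * r₂ ∨ z = r₃ * (r * r₂) → ¬ Pt W j s z := by
    have f := B.class_facts E
    have hzz : ∀ {m n : Mon}, el j s 0 m * el j s 0 n = el j s 0 (m * n) := E.el_zero_mul (E.mem' _) (E.mem' _)
    rintro z (rfl | rfl | rfl | rfl) hp
    · refine (f _).1 ?_ hp
      show IsConj (el j s 0 eA) (el j s 0 eC)
      rw [show eC = Mon.perm 2 false * eA * (Mon.perm 2 false)⁻¹ by decide +kernel]
      exact E.isConj_perm 2 eA
    · refine (f _).2.1 ?_ hp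
      show IsConj _ _
      rw [hzz, show eC * eA = Mon.perm 1 false * eBC * (Mon.perm 1 false)⁻¹ by decide +kernel]
      exact E.isConj_perm 1 eBC
    · refine (f _).2.1 ?_ hp
      show IsConj _ _
      rw [hzz, show eC * eB = eBC by decide +kernel]
    · refine (f _).2.2.1 ?_ hp
      show IsConj _ _
      rw [hzz, hzz, show eC * (eA * eB) = negOne by decide +kernel]
  have hlifts : ∀ {x y : C}, IsConj (π x) (π y) → ∀ {n : G}, (n = 1 ∨ n = r ∨ n = r₂ ∨ n = r * r₂) →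
      ∃ z, (z = (y : G) ∨ z = y * r ∨ z = y * r₂ ∨ z = y * (r * r₂)) ∧ IsConj ((x : G) * n) z := by
    intro x y h n hn
    obtain ⟨c, hc⟩ := isConj_iff.1 h
    obtain ⟨d, rfl⟩ := QuotientGroup.mk'_surjective N c
    rw [← map_inv π, ← map_mul π, ← map_mul π] at hc
    have hnC : n ∈ C := by
      rcases hn with rfl | rfl | rfl | rfl
      exacts [one_mem _, hC.2 ⟨Commute.refl r, hrr⟩, hC.2 ⟨hrr.symm, Commute.refl r₂⟩,
        mul_mem (hC.2 ⟨Commute.refl r, hrr⟩) (hC.2 ⟨hrr.symm, Commute.refl r₂⟩)]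
    have h2 : π (d * (x * ⟨n, hnC⟩) * d⁻¹) = π y := by
      rw [map_mul, map_mul, map_mul, show π ⟨n, hnC⟩ = 1 from (QuotientGroup.eq_one_iff _).2 ((hmemN _).2 hn),
        mul_one, ← map_mul, ← map_mul, hc]
    refine ⟨(d : G) * ((x : G) * n) * (d : G)⁻¹, ?_, isConj_iff.2 ⟨d, rfl⟩⟩
    simpa using heq h2.symm
  have hone : π ⟨k₃, hk3C⟩ ≠ 1 := fun hx => by
    rcases (hmemN _).1 ((QuotientGroup.eq_one_iff _).1 hx) with e | e | e | e <;> dsimp only at e
    · exact hk31 (S'.inj B (e.trans (map_one ψ').symm))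
    · exact hk345 (S'.inj B (e.trans S'.sign.symm))
    · exact absurd (S'.inj B (e.trans S'.otherSign.symm)) (by decide +kernel)
    · refine absurd (S'.inj B (e.trans ?_))
        (by decide +kernel : swap 0 3 * swap 1 2 ≠ (swap 4 5 * swap 1 2 : Perm (Fin 6)))
      rw [map_mul, S'.sign, S'.otherSign]
  have hxsq : π ⟨k₃, hk3C⟩ * π ⟨k₃, hk3C⟩ = 1 := by
    rw [← map_mul, show (⟨k₃, hk3C⟩ : C) * ⟨k₃, hk3C⟩ = 1 from
      Subtype.ext (S'.part_sq ⟨_, hk3e, rfl⟩ ⟨_, hk3e, rfl⟩).2, map_one]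
  have hysq : π ⟨r₃, hr3C⟩ * π ⟨r₃, hr3C⟩ = 1 := by
    rw [← map_mul, show (⟨r₃, hr3C⟩ : C) * ⟨r₃, hr3C⟩ = 1 from Subtype.ext hr3sq, map_one]
  have key := two_classes hVK hself hxsq hysq
    (fun v hv hcj => by
      obtain ⟨k, hk, hkS, rfl⟩ := hVmem v hv
      by_cases h1 : π ⟨k, hk⟩ = 1
      · rw [h1, isConj_one_right] at hcj
        exact hone hcj
      obtain ⟨z, hz, hc⟩ := hlifts hcj.symm (n := r₂) (Or.inr (Or.inr (Or.inl rfl)))
      obtain ⟨⟨t1, t2, t3, t4⟩, -⟩ := hlift hkS hk h1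
      have htz : Trv W j s z := hk3trv.trans hc
      rcases hz with rfl | rfl | rfl | rfl
      exacts [t1 htz, t2 htz, t3 htz, t4 htz])
    (fun v hv hcj => by
      obtain ⟨k, hk, hkS, rfl⟩ := hVmem v hv
      by_cases h1 : π ⟨k, hk⟩ = 1
      · rw [h1, isConj_one_right] at hcj
        rcases (hmemN _).1 ((QuotientGroup.eq_one_iff _).1 hcj) with e | e | e | e <;> dsimp only at e
        · exact absurd ((E.el_eq_one_iff (E.mem' _)).1 e).2 (by decide +kernel)
        · exact absurd (E.el_injective (E.mem' _) (E.mem' _) e).2 (by decide +kernel)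
        · exact absurd (E.el_injective (E.mem' _) (E.mem' _) e).2 (by decide +kernel)
        · rw [E.el_zero_mul (E.mem' _) (E.mem' _)] at e
          exact absurd (E.el_injective (E.mem' _) (E.mem' _) e).2 (by decide +kernel)
      obtain ⟨-, hp | hp, -⟩ := hlift hkS hk h1
      · obtain ⟨z, hz, hc⟩ := hlifts hcj (n := 1) (Or.inl rfl)
        rw [mul_one] at hc
        exact hr3pt z hz (hp.conj hc)
      · obtain ⟨z, hz, hc⟩ := hlifts hcj (n := r) (Or.inr (Or.inl rfl))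
        exact hr3pt z hz (hp.conj hc))
  obtain ⟨z, hz, hc⟩ := hlifts key (n := r) (Or.inr (Or.inl rfl))
  exact hr3pt z hz (hk3pt.conj hc)

end Cfsg.Agent.PSpThreeReal
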