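import Cfsg.Agent.Lib.PSpThreeReal.Large.SixLabel

/-!
# The centralizer of a fixed-point-free involution of twelve points, in pairs

* `Pairs.toPerm v σ`: flips by `v` after the permutation `σ` of the six pairs
* `Pairs.toPerm_mul`, `Pairs.toPerm_inj`, `Pairs.exists_of_commute`: it is the centralizer, the even part given by even `v`
* `Pairs.vec_cases`, `Pairs.inv_shape`, `Pairs.inv_reduce`: classes of even vectors and of involutions
-/

set_option autoImplicit false
set_option maxRecDepth 100000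
set_option synthInstance.maxSize 4000
set_option synthInstance.maxHeartbeats 200000

namespace Cfsg.Agent.PSpThreeReal.Pairs

open Equiv

/-- Vectors on the six pairs. -/
abbrev V6 := Fin 6 → ZMod 2

/-- The weight is even. -/
abbrev EvenV (v : V6) : Prop := ∑ i, v i = 0

/-- The vector of a pair of coordinates. -/
abbrev ev (a b : Fin 6) : V6 := fun i => (if i = a then 1 else 0) + if i = b then 1 else 0

/-- The all-one vector. -/
abbrev one6 : V6 := fun _ => 1

/-- A permutation carrying `1, 2` to `a, b`. -/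
def bring (a b : Fin 6) : Perm (Fin 6) := swap (swap 1 a 2) b * swap 1 a

/-- A permutation fixing `{1, 2}` carrying `4, 5` to `a, b`. -/
def bring45 (a b : Fin 6) : Perm (Fin 6) := swap (swap 4 a 5) b * swap 4 a

theorem bring_apply : ∀ a b : Fin 6, a ≠ b → bring a b 1 = a ∧ bring a b 2 = b := by decide +kernel

/-- Twelve points as pairs. -/
def pts : Fin 6 × ZMod 2 ≃ Fin 12 := finProdFinEquiv

/-- Flips on the pairs. -/
def flips (v : V6) : Perm (Fin 6 × ZMod 2) := prodCongrRight fun i => Equiv.addRight (v i)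

/-- The permutation of the pairs. -/
def moves (σ : Perm (Fin 6)) : Perm (Fin 6 × ZMod 2) := prodCongrLeft fun _ => σ

/-- Flips after a permutation of the pairs, on twelve points. -/
def toPerm (v : V6) (σ : Perm (Fin 6)) : Perm (Fin 12) := pts.permCongr (flips v * moves σ)

theorem flips_moves_apply (v : V6) (σ : Perm (Fin 6)) (p : Fin 6 × ZMod 2) :
    (flips v * moves σ) p = (σ p.1, p.2 + v (σ p.1)) := rfl

theorem toPerm_mul (v w : V6) (σ τ : Perm (Fin 6)) :
    toPerm v σ * toPerm w τ = toPerm (v + w ∘ σ.symm) (σ * τ) := by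
  rw [toPerm, toPerm, toPerm, ← permCongr_mul]
  congr 1
  refine Equiv.ext fun p => ?_
  rw [Perm.mul_apply, flips_moves_apply, flips_moves_apply, flips_moves_apply]
  refine Prod.ext rfl ?_
  show p.2 + w (τ p.1) + v (σ (τ p.1)) = p.2 + (v (σ (τ p.1)) + w (σ.symm (σ (τ p.1))))
  rw [symm_apply_apply]
  abel

theorem toPerm_inj {v w : V6} {σ τ : Perm (Fin 6)} (h : toPerm v σ = toPerm w τ) : v = w ∧ σ = τ := by
  have h' := pts.permCongr.injective h
  have h1 : ∀ p, (σ p, v (σ p)) = (τ p, w (τ p)) := fun p => by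
    have := congrArg (fun e : Perm (Fin 6 × ZMod 2) => e (p, 0)) h'
    simpa only [flips_moves_apply, zero_add] using this
  have e : σ = τ := Equiv.ext fun p => congrArg Prod.fst (h1 p)
  subst e
  refine ⟨funext fun i => ?_, rfl⟩
  have := congrArg Prod.snd (h1 (σ.symm i))
  rwa [apply_symm_apply] at this

/-- The fixed-point-free involution. -/
def alpha : Perm (Fin 12) :=
  swap (0 : Fin 12) 1 * swap (2 : Fin 12) 3 * swap (4 : Fin 12) 5 * swap (6 : Fin 12) 7 * swap (8 : Fin 12) 9 *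
    swap (10 : Fin 12) 11

theorem toPerm_one6 : toPerm one6 1 = alpha := by decide +kernel

theorem toPerm_commute (v : V6) (σ : Perm (Fin 6)) : toPerm v σ * alpha = alpha * toPerm v σ := by
  rw [← toPerm_one6, toPerm_mul, toPerm_mul, mul_one, one_mul]
  congr 1
  exact (add_comm _ _).trans (congrArg₂ (· + ·) rfl (funext fun i => rfl))

theorem sign_addRight : ∀ c : ZMod 2, Perm.sign (Equiv.addRight c) = if c = 0 then 1 else -1 := by
  decide +kernel

theorem sign_even : ∀ v : V6, (∏ i, if v i = 0 then (1 : ℤˣ) else -1) = 1 ↔ EvenV v := by decide +kernel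

theorem toPerm_even (v : V6) (σ : Perm (Fin 6)) :
    toPerm v σ ∈ alternatingGroup (Fin 12) ↔ EvenV v := by
  rw [Perm.mem_alternatingGroup, toPerm, Perm.sign_permCongr, map_mul, moves, Perm.sign_prodCongrLeft,
    flips, Perm.sign_prodCongrRight, Finset.prod_const, Finset.card_univ, ZMod.card, pow_two,
    Int.units_mul_self, mul_one]
  simp only [sign_addRight]
  exact sign_even v

theorem exists_of_commute {P : Perm (Fin 12)} (h : P * alpha = alpha * P) : ∃ v σ, P = toPerm v σ := by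
  obtain ⟨Q, rfl⟩ := pts.permCongr.surjective P
  rw [← toPerm_one6, toPerm, ← permCongr_mul, ← permCongr_mul, pts.permCongr.apply_eq_iff_eq] at h
  have hQ : ∀ i e, Q (i, e + 1) = ((Q (i, e)).1, (Q (i, e)).2 + 1) := fun i e => by
    have := congrArg (fun f : Perm (Fin 6 × ZMod 2) => f (i, e)) h
    exact this
  have hform : ∀ i e, Q (i, e) = ((Q (i, 0)).1, (Q (i, 0)).2 + e) := fun i e => by
    have key : ∀ e : ZMod 2, e = 0 ∨ e = 0 + 1 := by decide +kernel
    rcases key e with rfl | rfl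
    · rw [add_zero]
    · rw [hQ, zero_add]
  have hinj : Function.Injective fun i => (Q (i, 0)).1 := fun i j e => by
    have h1 : Q (i, 0) = Q (j, (Q (i, 0)).2 - (Q (j, 0)).2) := by
      rw [hform j, add_sub_cancel]
      exact Prod.ext e rfl
    exact (Prod.ext_iff.1 (Q.injective h1)).1
  let σ := Equiv.ofBijective _ (Finite.injective_iff_bijective.1 hinj)
  refine ⟨fun i => (Q (σ.symm i, 0)).2, σ, congrArg pts.permCongr (Equiv.ext ?_)⟩
  rintro ⟨i, e⟩
  rw [flips_moves_apply, hform]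
  refine Prod.ext rfl ?_
  show (Q (i, 0)).2 + e = e + (Q (σ.symm (σ i), 0)).2
  rw [symm_apply_apply, add_comm]

theorem card_even : Fintype.card {v : V6 // EvenV v} = 32 := by decide +kernel

theorem even_comp {v : V6} (hv : EvenV v) (σ : Perm (Fin 6)) : EvenV (v ∘ σ.symm) :=
  (Equiv.sum_comp σ.symm v).trans hv

theorem ev_comp : ∀ a b : Fin 6, ∀ c d : Fin 6, ev a b ∘ (swap c d).symm = ev (swap c d a) (swap c d b) := by
  decide +kernel

theorem ev_even : ∀ a b : Fin 6, EvenV (ev a b) := by decide +kernel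

theorem even_add : ∀ v w : V6, EvenV v → EvenV w → EvenV (v + w) := fun v w hv hw => by
  show ∑ i, (v i + w i) = 0
  rw [Finset.sum_add_distrib, hv, hw, add_zero]

theorem vec_swap : ∀ v : V6, ∀ a b : Fin 6, v a ≠ v b → v + v ∘ (swap a b).symm = ev a b := by
  decide +kernel

theorem vec_const : ∀ v : V6, v = 0 ∨ v = one6 ∨ ∃ a b, v a ≠ v b := by decide +kernel

theorem perm_trivial : ∀ σ : Perm (Fin 6),
    (∀ a b : Fin 6, a ≠ b → σ a = a ∧ σ b = b ∨ σ a = b ∧ σ b = a) → σ = 1 := by decide +kernel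

/-- The classes of even vectors. -/
theorem vec_cases : ∀ v : V6, EvenV v → ∃ a b : Fin 6,
    v ∘ (bring a b).symm = 0 ∨ v ∘ (bring a b).symm = one6 ∨ v ∘ (bring a b).symm = ev 1 2 ∨
      v ∘ (bring a b).symm = ev 1 2 + one6 ∨ v ∘ bring a b = ev 1 2 ∨ v ∘ bring a b = ev 1 2 + one6 := by
  decide +kernel

/-- The classes of involutions of the top. -/
theorem inv_shape : ∀ σ : Perm (Fin 6), σ * σ = 1 → σ ≠ 1 →
    ∃ τ, τ * σ * τ⁻¹ = swap 1 2 ∨ τ * σ * τ⁻¹ = swap 1 2 * swap 4 5 ∨ τ * σ * τ⁻¹ = Six.flip6 := by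
  decide +kernel

/-- Reduction of the vector of an involution. -/
theorem inv_reduce : ∀ v : V6, EvenV v →
    (v + v ∘ (swap 1 2 : Perm (Fin 6)).symm = 0 → ∃ a b : Fin 6,
      bring45 a b * swap 1 2 = swap 1 2 * bring45 a b ∧ ∃ x : V6, EvenV x ∧
      (x + v ∘ (bring45 a b).symm + x ∘ (swap 1 2 : Perm (Fin 6)).symm = 0 ∨
        x + v ∘ (bring45 a b).symm + x ∘ (swap 1 2 : Perm (Fin 6)).symm = one6 ∨
        x + v ∘ (bring45 a b).symm + x ∘ (swap 1 2 : Perm (Fin 6)).symm = ev 4 5)) ∧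
    (v + v ∘ (swap 1 2 * swap 4 5 : Perm (Fin 6)).symm = 0 → ∃ x : V6, EvenV x ∧
      (x + v + x ∘ (swap 1 2 * swap 4 5 : Perm (Fin 6)).symm = 0 ∨
        x + v + x ∘ (swap 1 2 * swap 4 5 : Perm (Fin 6)).symm = one6)) ∧
    (v + v ∘ Six.flip6.symm = 0 → ∃ x : V6, EvenV x ∧
      (x + v + x ∘ Six.flip6.symm = 0 ∨ x + v + x ∘ Six.flip6.symm = one6)) := by
  decide +kernel

end Cfsg.Agent.PSpThreeReal.Pairs
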