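import Mathlib.GroupTheory.SpecificGroups.Alternating.Simple
import Cfsg.Agent.Lib.PSpThreeReal.Large.Pairs

/-!
# The group `2⁵ : S6` of a cocode involution

* `Cocode`: a copy of `S6` and an involution `k` spanning the even vectors
* `Cocode.K`, `Cocode.Y`: the elementary abelian subgroup and the whole group
* `Cocode.exists_code`: coordinates `f` on `K`
* `Cocode.exists_iso`: `Y` is the centralizer of a fixed-point-free involution in `A12`
* `Cocode.K_cases`, `Cocode.involution_cases`, `Cocode.normal_cases`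
-/

set_option autoImplicit false
set_option maxRecDepth 100000
set_option synthInstance.maxSize 4000
set_option synthInstance.maxHeartbeats 200000

namespace Cfsg.Agent.PSpThreeReal

open Equiv Subgroup
open Pairs

variable {G : Type*} [Group G]

/-- A copy of `S6` and an involution spanning an even binary module with it. -/
structure Cocode (φ : Perm (Fin 6) →* G) (r k : G) : Prop where
  inj : Function.Injective φ
  fix : ∀ σ ∈ ({swap 1 2, Six.c345, swap 4 5, swap 0 3} : Set (Perm (Fin 6))), Commute (φ σ) k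
  sq : k * k = 1
  ne : k ≠ 1
  comm : ∀ σ, Commute (φ σ * k * (φ σ)⁻¹) k
  tri : k * (φ Six.c012 * k * (φ Six.c012)⁻¹) = (φ Six.c012)⁻¹ * k * φ Six.c012
  r_eq : r = k * (φ Six.flip6 * k * (φ Six.flip6)⁻¹) *
    (φ (swap 1 0 * swap 2 3) * k * (φ (swap 1 0 * swap 2 3))⁻¹)
  r_ne : r ≠ 1

/-- The span of the conjugates of `k`. -/
def Cocode.K (φ : Perm (Fin 6) →* G) (k : G) : Subgroup G :=
  closure (Set.range fun σ => φ σ * k * (φ σ)⁻¹)

/-- The whole group. -/
def Cocode.Y (φ : Perm (Fin 6) →* G) (k : G) : Subgroup G := Cocode.K φ k ⊔ φ.range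

/-- Coordinates on `K`. -/
structure Cocode.Code (φ : Perm (Fin 6) →* G) (r k : G) (f : V6 → G) : Prop where
  add : ∀ v w, f (v + w) = f v * f w
  conj : ∀ σ v, EvenV v → φ σ * f v * (φ σ)⁻¹ = f (v ∘ σ.symm)
  k_eq : f (ev 1 2) = k
  r_eq : f one6 = r
  mem : ∀ v, f v ∈ Cocode.K φ k
  surj : ∀ w ∈ Cocode.K φ k, ∃ v, EvenV v ∧ f v = w
  inj : ∀ v, EvenV v → f v = 1 → v = 0
  inter : ∀ σ, φ σ ∈ Cocode.K φ k → σ = 1

theorem stab_word : ∀ σ : Perm (Fin 6), (σ 1 = 1 ∧ σ 2 = 2 ∨ σ 1 = 2 ∧ σ 2 = 1) →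
    ∃ a : Fin 2, ∃ b : Fin 4, ∃ c : Fin 3, ∃ d : Fin 2, σ = swap 1 2 ^ (a : ℕ) *
      (![1, swap 0 3, Six.c345 * swap 0 3, Six.c345 * Six.c345 * swap 0 3] b : Perm (Fin 6)) *
        (Six.c345 ^ (c : ℕ) * swap 4 5 ^ (d : ℕ)) := by
  decide +kernel

theorem bring_facts : bring 1 2 = 1 ∧ (Six.flip6 1 = 4 ∧ Six.flip6 2 = 5) ∧
    ((swap 1 0 * swap 2 3 : Perm (Fin 6)) 1 = 0 ∧ (swap 1 0 * swap 2 3 : Perm (Fin 6)) 2 = 3) ∧
    (Six.c012 1 = 2 ∧ Six.c012 2 = 0) ∧ (Six.c012⁻¹ 1 = 0 ∧ Six.c012⁻¹ 2 = 1) := by decide +kernel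

theorem bring_three : ∀ a b c : Fin 6, a ≠ b → b ≠ c → a ≠ c →
    ∃ σ : Perm (Fin 6), σ 1 = a ∧ σ 2 = b ∧ σ 0 = c := fun a b c h1 h2 h3 => by
  have key : ∀ a b c : Fin 6, a ≠ b → b ≠ c → a ≠ c →
      (swap (bring a b 0) c * bring a b) 1 = a ∧ (swap (bring a b 0) c * bring a b) 2 = b ∧
        (swap (bring a b 0) c * bring a b) 0 = c := by decide +kernel
  exact ⟨_, key a b c h1 h2 h3⟩

/-- Coordinates on `K` exist. -/
theorem Cocode.exists_code {φ : Perm (Fin 6) →* G} {r k : G} (C : Cocode φ r k) :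
    ∃ f : V6 → G, Cocode.Code φ r k f := by
  classical
  have hgen : ∀ σ : Perm (Fin 6), (σ 1 = 1 ∧ σ 2 = 2 ∨ σ 1 = 2 ∧ σ 2 = 1) → Commute (φ σ) k := by
    intro σ h
    obtain ⟨a, b, c, d, rfl⟩ := stab_word σ h
    have h1 : Commute (φ (swap 1 2)) k := C.fix _ (by simp)
    have h2 : Commute (φ Six.c345) k := C.fix _ (by simp)
    have h3 : Commute (φ (swap 4 5)) k := C.fix _ (by simp)
    have h4 : Commute (φ (swap 0 3)) k := C.fix _ (by simp)
    simp only [map_mul, map_pow]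
    refine ((h1.pow_left _).mul_left ?_).mul_left ((h2.pow_left _).mul_left (h3.pow_left _))
    fin_cases b
    · simp
    · exact h4
    · simp [h2.mul_left h4]
    · simp [(h2.mul_left h2).mul_left h4]
  -- the conjugates by pairs
  let F : Fin 6 → Fin 6 → G := fun a b => φ (bring a b) * k * (φ (bring a b))⁻¹
  have hF : ∀ σ : Perm (Fin 6), ∀ a b, σ 1 = a → σ 2 = b → φ σ * k * (φ σ)⁻¹ = F a b := by
    intro σ a b ha hb
    have hab : a ≠ b := fun e => by
      have := σ.injective (ha.trans (e.trans hb.symm))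
      exact absurd this (by decide)
    obtain ⟨h1, h2⟩ := bring_apply a b hab
    have h := hgen ((bring a b)⁻¹ * σ) (Or.inl ⟨by rw [Perm.mul_apply, ha, Perm.inv_eq_iff_eq, h1],
      by rw [Perm.mul_apply, hb, Perm.inv_eq_iff_eq, h2]⟩)
    rw [map_mul, map_inv] at h
    calc φ σ * k * (φ σ)⁻¹
        = φ (bring a b) * (((φ (bring a b))⁻¹ * φ σ) * k * ((φ (bring a b))⁻¹ * φ σ)⁻¹) *
            (φ (bring a b))⁻¹ := by group
      _ = F a b := by rw [h.eq, mul_inv_cancel_right]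
  have hconj : ∀ σ : Perm (Fin 6), ∀ a b, a ≠ b → φ σ * F a b * (φ σ)⁻¹ = F (σ a) (σ b) := by
    intro σ a b hab
    obtain ⟨h1, h2⟩ := bring_apply a b hab
    rw [← hF (σ * bring a b) (σ a) (σ b) (by rw [Perm.mul_apply, h1]) (by rw [Perm.mul_apply, h2]), map_mul]
    simp only [F]
    group
  obtain ⟨hb12, ⟨hf1, hf2⟩, ⟨hp1, hp2⟩, ⟨hc1, hc2⟩, ⟨hd1, hd2⟩⟩ := bring_facts
  have hk : F 1 2 = k := by
    show φ (bring 1 2) * k * (φ (bring 1 2))⁻¹ = k
    rw [hb12, map_one, one_mul, inv_one, mul_one]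
  have hswap : ∀ a b, a ≠ b → F b a = F a b := by
    intro a b hab
    obtain ⟨h1, h2⟩ := bring_apply a b hab
    have h := (hgen (swap 1 2) (Or.inr ⟨swap_apply_left _ _, swap_apply_right _ _⟩)).eq
    rw [← hF (bring a b * swap 1 2) b a (by rw [Perm.mul_apply, swap_apply_left, h2])
      (by rw [Perm.mul_apply, swap_apply_right, h1]), map_mul]
    show _ = φ (bring a b) * k * (φ (bring a b))⁻¹
    calc φ (bring a b) * φ (swap 1 2) * k * (φ (bring a b) * φ (swap 1 2))⁻¹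
        = φ (bring a b) * (φ (swap 1 2) * k * (φ (swap 1 2))⁻¹) * (φ (bring a b))⁻¹ := by group
      _ = _ := by rw [h, mul_inv_cancel_right]
  have htri : ∀ a b c : Fin 6, a ≠ b → b ≠ c → a ≠ c → F a b * F b c = F c a := by
    intro a b c h1 h2 h3
    obtain ⟨σ, s1, s2, s0⟩ := bring_three a b c h1 h2 h3
    rw [← hF σ a b s1 s2, ← hF (σ * Six.c012) b c (by rw [Perm.mul_apply, hc1, s2]) (by rw [Perm.mul_apply, hc2, s0]),
      ← hF (σ * Six.c012⁻¹) c a (by rw [Perm.mul_apply, hd1, s0]) (by rw [Perm.mul_apply, hd2, s1]), map_mul, map_mul, map_inv]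
    calc φ σ * k * (φ σ)⁻¹ * (φ σ * φ Six.c012 * k * (φ σ * φ Six.c012)⁻¹)
        = φ σ * (k * (φ Six.c012 * k * (φ Six.c012)⁻¹)) * (φ σ)⁻¹ := by group
      _ = _ := by rw [C.tri]; group
  -- `K` is elementary abelian
  set K := Cocode.K φ k with hKdef
  have hFK : ∀ a b, F a b ∈ K := fun a b => subset_closure ⟨_, rfl⟩
  have hcomm : IsMulCommutative K := by
    refine isMulCommutative_closure fun x hx y hy => ?_
    obtain ⟨σ, rfl⟩ := hx
    obtain ⟨τ, rfl⟩ := hy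
    have h := ((C.comm (τ⁻¹ * σ)).map (MulAut.conj (φ τ)).toMonoidHom).eq
    simp only [MulEquiv.toMonoidHom_eq_coe, MonoidHom.coe_coe, MulAut.conj_apply, map_mul, map_inv] at h
    simpa [mul_assoc] using h
  letI : CommGroup K := { (inferInstance : Group K) with mul_comm := hcomm.is_comm.comm }
  let g : Fin 6 → K := fun a => if h : a = 0 then 1 else ⟨F 0 a, hFK 0 a⟩
  have hgsq : ∀ a, g a * g a = 1 := fun a => by
    by_cases h : a = 0
    · simp [g, h]
    · refine Subtype.ext ?_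
      simp only [g, dif_neg h, Subgroup.coe_mul, Subgroup.coe_one, F]
      calc φ (bring 0 a) * k * (φ (bring 0 a))⁻¹ * (φ (bring 0 a) * k * (φ (bring 0 a))⁻¹)
          = φ (bring 0 a) * (k * k) * (φ (bring 0 a))⁻¹ := by group
        _ = 1 := by rw [C.sq]; group
  have hgF : ∀ a b, a ≠ b → (g a : G) * g b = F a b := by
    intro a b hab
    by_cases ha : a = 0
    · subst ha
      simp [g, Ne.symm hab]
    by_cases hb : b = 0
    · subst hb
      simp [g, ha, hswap 0 a (Ne.symm ha)]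
    simp only [g, dif_neg ha, dif_neg hb]
    rw [← hswap 0 a (Ne.symm ha), htri a 0 b ha (Ne.symm hb) hab, hswap a b hab]
  let P : V6 → K := fun v => ∏ a, g a ^ (v a).val
  have hpow : ∀ (a : Fin 6) (x y : ZMod 2), g a ^ (x + y).val = g a ^ x.val * g a ^ y.val := by
    intro a x y
    have key : ∀ x y : ZMod 2, (x = 0 ∧ (x + y).val = y.val) ∨ (y = 0 ∧ (x + y).val = x.val) ∨
        (x.val = 1 ∧ y.val = 1 ∧ (x + y).val = 0) := by decide +kernel
    rcases key x y with ⟨rfl, e⟩ | ⟨rfl, e⟩ | ⟨e1, e2, e⟩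
    · rw [e]; simp
    · rw [e]; simp
    · rw [e, e1, e2, pow_zero, pow_one, hgsq]
  have hPadd : ∀ v w, P (v + w) = P v * P w := fun v w => by
    simp only [P, Pi.add_apply, hpow, Finset.prod_mul_distrib]
  have hP1 : ∀ a, P (fun i => if i = a then 1 else 0) = g a := fun a => by
    simp only [P]
    rw [Finset.prod_eq_single a (fun b _ hb => by simp [hb]) (by simp)]
    simp [show (1 : ZMod 2).val = 1 from rfl]
  have hPev : ∀ a b, a ≠ b → (P (ev a b) : G) = F a b := fun a b hab => by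
    rw [show ev a b = (fun i => if i = a then 1 else 0) + fun i => if i = b then 1 else 0 from rfl, hPadd, hP1, hP1,
      Subgroup.coe_mul, hgF a b hab]
  have hP0 : P 0 = 1 := by simp [P]
  have hkeq : (P (ev 1 2) : G) = k := (hPev 1 2 (by decide)).trans hk
  have hreq : (P one6 : G) = r := by
    rw [show (one6 : V6) = ev 1 2 + ev 4 5 + ev 0 3 by decide +kernel, hPadd, hPadd, Subgroup.coe_mul,
      Subgroup.coe_mul, hkeq, hPev 4 5 (by decide), hPev 0 3 (by decide), C.r_eq, ← hF _ 4 5 hf1 hf2,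
      ← hF _ 0 3 hp1 hp2]
  -- conjugation
  have hcv : ∀ σ v, EvenV v → φ σ * (P v : G) * (φ σ)⁻¹ = P (v ∘ σ.symm) := by
    intro σ v hv
    have hcl : ∀ x : K, φ σ * (x : G) * (φ σ)⁻¹ ∈ K := by
      intro x
      obtain ⟨x, hx⟩ := x
      induction hx using closure_induction with
      | mem y hy =>
        obtain ⟨τ, rfl⟩ := hy
        refine subset_closure ⟨σ * τ, ?_⟩
        simp only [map_mul]
        group
      | one => simp
      | mul y z _ _ hy hz => simpa [mul_assoc] using mul_mem hy hz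
      | inv y _ hy => simpa [mul_assoc] using inv_mem hy
    let c : K →* K := MonoidHom.mk' (fun x => ⟨_, hcl x⟩) fun x y => Subtype.ext (by
      simp only [Subgroup.coe_mul]; group)
    have hc : ∀ a, c (g a) = g (σ 0) * g (σ a) := by
      intro a
      by_cases ha : a = 0
      · subst ha
        rw [show g 0 = 1 by simp [g], map_one, hgsq]
      · refine Subtype.ext ?_
        show φ σ * (g a : G) * (φ σ)⁻¹ = _
        simp only [g, dif_neg ha]
        rw [hconj σ 0 a (Ne.symm ha), Subgroup.coe_mul]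
        exact (hgF _ _ (σ.injective.ne (Ne.symm ha))).symm
    have h : c (P v) = P (v ∘ σ.symm) := by
      have heven : ∀ x : V6, EvenV x → ∀ y : K, y * y = 1 → ∏ a, y ^ (x a).val = 1 := fun x hx y hy => by
        rw [Finset.prod_pow_eq_pow_sum]
        obtain ⟨n, hn⟩ : 2 ∣ ∑ a, (x a).val := by
          rw [← ZMod.natCast_eq_zero_iff, Nat.cast_sum]
          simpa using hx
        rw [hn, pow_mul, pow_two, hy, one_pow]
      simp only [P, map_prod, map_pow, hc, mul_pow, Finset.prod_mul_distrib, heven v hv _ (hgsq (σ 0)), one_mul]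
      rw [← Equiv.prod_comp σ (fun a => g a ^ ((v ∘ σ.symm) a).val)]
      simp
    exact congrArg Subtype.val h
  -- the kernel
  have hker : ∀ v, EvenV v → P v = 1 → v = 0 := by
    intro v hv h
    rcases vec_const v with rfl | rfl | ⟨a, b, hab⟩
    · rfl
    · exact absurd (hreq.symm.trans (congrArg Subtype.val h)) C.r_ne
    · exfalso
      have hne : a ≠ b := fun e => hab (by rw [e])
      have h1 : (P (ev a b) : G) = 1 := by
        rw [← vec_swap v a b hab, hPadd, h, one_mul, ← hcv _ _ hv, h, Subgroup.coe_one, mul_one, mul_inv_cancel]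
      rw [hPev a b hne] at h1
      exact C.ne (conj_eq_one_iff.1 h1)
  have hsurj : ∀ w ∈ K, ∃ v, EvenV v ∧ (P v : G) = w := by
    intro w hw
    induction hw using closure_induction with
    | mem y hy =>
      obtain ⟨σ, rfl⟩ := hy
      exact ⟨ev (σ 1) (σ 2), ev_even _ _, (hPev _ _ (σ.injective.ne (by decide))).trans (hF σ _ _ rfl rfl).symm⟩
    | one => exact ⟨0, by simp [EvenV], by rw [hP0]; rfl⟩
    | mul x y _ _ hx hy =>
      obtain ⟨v, hv, rfl⟩ := hx
      obtain ⟨u, hu, rfl⟩ := hy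
      exact ⟨v + u, even_add _ _ hv hu, by rw [hPadd, Subgroup.coe_mul]⟩
    | inv x _ hx =>
      obtain ⟨v, hv, rfl⟩ := hx
      refine ⟨v, hv, eq_inv_of_mul_eq_one_left ?_⟩
      rw [← Subgroup.coe_mul, ← hPadd, show v + v = 0 from funext fun i => CharTwo.add_self_eq_zero (v i), hP0]
      rfl
  refine ⟨fun v => P v, fun v w => ?_, hcv, hkeq, hreq, fun v => (P v).2, hsurj,
    fun v hv h => hker v hv (Subtype.ext h), fun σ hσ => ?_⟩
  · show ((P (v + w) : K) : G) = _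
    rw [hPadd, Subgroup.coe_mul]
  · refine perm_trivial σ fun a b hab => ?_
    have h1 : (P (ev (σ a) (σ b)) : G) = P (ev a b) := by
      have := congrArg Subtype.val (hcomm.is_comm.comm ⟨φ σ, hσ⟩ (P (ev a b)))
      rw [hPev _ _ (σ.injective.ne hab), hPev a b hab, ← hconj σ a b hab, ← hPev a b hab]
      exact mul_inv_eq_iff_eq_mul.2 this
    have h2 : ev (σ a) (σ b) + ev a b = 0 := hker _ (even_add _ _ (ev_even _ _) (ev_even _ _)) (by
      rw [hPadd]
      refine Subtype.ext ?_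
      rw [Subgroup.coe_mul, h1, ← Subgroup.coe_mul, ← hPadd,
        show ev a b + ev a b = 0 from funext fun i => CharTwo.add_self_eq_zero (ev a b i), hP0])
    have key : ∀ a b c d : Fin 6, a ≠ b → ev c d + ev a b = 0 → c ≠ d → c = a ∧ d = b ∨ c = b ∧ d = a := by
      decide +kernel
    exact key a b _ _ hab h2 (σ.injective.ne hab)

variable {φ : Perm (Fin 6) →* G} {r k : G} {f : V6 → G}

theorem Cocode.Code.zero (E : Cocode.Code φ r k f) : f 0 = 1 := by
  have h := E.add 0 0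
  rwa [add_zero, left_eq_mul] at h

theorem Cocode.Code.mul_form (E : Cocode.Code φ r k f) {w : V6} (hw : EvenV w) (v : V6) (σ τ : Perm (Fin 6)) :
    f v * φ σ * (f w * φ τ) = f (v + w ∘ σ.symm) * φ (σ * τ) := by
  rw [E.add, ← E.conj σ w hw, map_mul]
  group

theorem Cocode.Code.form_inj (E : Cocode.Code φ r k f) {v w : V6} (hv : EvenV v) (hw : EvenV w)
    {σ τ : Perm (Fin 6)} (h : f v * φ σ = f w * φ τ) : v = w ∧ σ = τ := by
  have e : σ = τ := by
    refine mul_inv_eq_one.1 (E.inter (σ * τ⁻¹) ?_)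
    rw [map_mul, map_inv, show φ σ * (φ τ)⁻¹ = (f v)⁻¹ * f w by
      rw [eq_inv_mul_iff_mul_eq, ← mul_assoc, h, mul_inv_cancel_right]]
    exact mul_mem (inv_mem (E.mem v)) (E.mem w)
  subst e
  have h1 : v + w = 0 := E.inj _ (even_add _ _ hv hw) (by
    rw [E.add, mul_right_cancel h, ← E.add,
      show w + w = 0 from funext fun i => CharTwo.add_self_eq_zero (w i), E.zero])
  exact ⟨(CharTwo.add_eq_zero.1 h1 : v = w), rfl⟩

theorem Cocode.Code.form_mem (E : Cocode.Code φ r k f) (v : V6) (σ : Perm (Fin 6)) :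
    f v * φ σ ∈ Cocode.Y φ k :=
  mul_mem_sup (E.mem v) ⟨σ, rfl⟩

theorem Cocode.Code.conj_form (E : Cocode.Code φ r k f) {v x : V6} (hv : EvenV v) (hx : EvenV x)
    (σ τ : Perm (Fin 6)) : f x * φ τ * (f v * φ σ) * (f x * φ τ)⁻¹ =
      f (x + v ∘ τ.symm + x ∘ (τ * σ * τ⁻¹).symm) * φ (τ * σ * τ⁻¹) := by
  rw [mul_inv_eq_iff_eq_mul, E.mul_form hv, E.mul_form hx, inv_mul_cancel_right]
  congr 2
  rw [add_assoc, show x ∘ (τ * σ * τ⁻¹).symm + x ∘ (τ * σ * τ⁻¹).symm = 0 from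
    funext fun i => CharTwo.add_self_eq_zero _, add_zero]

theorem Cocode.Code.K_normal (E : Cocode.Code φ r k f) :
    Cocode.Y φ k ≤ normalizer (Cocode.K φ k : Set G) := by
  refine sup_le le_normalizer ?_
  rintro _ ⟨σ, rfl⟩
  have hmap : ∀ (τ : Perm (Fin 6)), ∀ x ∈ Cocode.K φ k, φ τ * x * (φ τ)⁻¹ ∈ Cocode.K φ k := fun τ x hx => by
    obtain ⟨v, hv, rfl⟩ := E.surj x hx
    rw [E.conj τ v hv]
    exact E.mem _
  refine mem_normalizer_iff.2 fun x => ⟨hmap σ x, fun hx => ?_⟩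
  have := hmap σ⁻¹ _ hx
  simpa [mul_assoc] using this

theorem Cocode.Code.exists_form (E : Cocode.Code φ r k f) {y : G} (hy : y ∈ Cocode.Y φ k) :
    ∃ v σ, EvenV v ∧ y = f v * φ σ := by
  let S : Subgroup G :=
    { carrier := {y | ∃ v σ, EvenV v ∧ y = f v * φ σ}
      one_mem' := ⟨0, 1, by simp [EvenV], by rw [E.zero, map_one, one_mul]⟩
      mul_mem' := by
        rintro _ _ ⟨v, σ, hv, rfl⟩ ⟨w, τ, hw, rfl⟩
        exact ⟨_, _, even_add _ _ hv (even_comp hw σ), E.mul_form hw v σ τ⟩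
      inv_mem' := by
        rintro _ ⟨v, σ, hv, rfl⟩
        refine ⟨v ∘ (σ⁻¹).symm, σ⁻¹, even_comp hv _, inv_eq_of_mul_eq_one_right ?_⟩
        rw [E.mul_form (even_comp hv _), mul_inv_cancel,
          show (v ∘ (σ⁻¹).symm) ∘ σ.symm = v from funext fun i => congrArg v (σ.apply_symm_apply i),
          show v + v = 0 from funext fun i => CharTwo.add_self_eq_zero (v i), E.zero, map_one, one_mul] }
  refine (sup_le ?_ ?_ : Cocode.Y φ k ≤ S) hy
  · intro x hx
    obtain ⟨v, hv, rfl⟩ := E.surj x hx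
    exact ⟨v, 1, hv, by rw [map_one, mul_one]⟩
  · rintro _ ⟨σ, rfl⟩
    exact ⟨0, σ, by simp [EvenV], by rw [E.zero, one_mul]⟩

/-- The basic properties of `K` and `Y`. -/
theorem Cocode.basics (C : Cocode φ r k) :
    IsMulCommutative (Cocode.K φ k) ∧ (∀ w ∈ Cocode.K φ k, w * w = 1) ∧ Nat.card (Cocode.K φ k) = 32 ∧
      r ∈ Cocode.K φ k ∧ (∀ y ∈ Cocode.Y φ k, Commute r y) ∧
      Cocode.Y φ k ≤ normalizer (Cocode.K φ k : Set G) ∧ Nat.card (Cocode.Y φ k) = 23040 ∧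
      (∀ y ∈ Cocode.Y φ k, ∃ w ∈ Cocode.K φ k, ∃ σ, y = w * φ σ) ∧
      ∀ w ∈ Cocode.K φ k, ∀ σ w' σ', w' ∈ Cocode.K φ k → w * φ σ = w' * φ σ' → w = w' ∧ σ = σ' := by
  obtain ⟨f, E⟩ := C.exists_code
  refine ⟨⟨⟨fun a b => Subtype.ext ?_⟩⟩, fun w hw => ?_, ?_, E.r_eq ▸ E.mem _, fun y hy => ?_, E.K_normal,
    ?_, fun y hy => ?_, fun w hw σ w' σ' hw' h => ?_⟩
  · obtain ⟨v, -, hv⟩ := E.surj _ a.2
    obtain ⟨u, -, hu⟩ := E.surj _ b.2
    show (a : G) * b = b * a
    rw [← hv, ← hu, ← E.add, ← E.add, add_comm]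
  · obtain ⟨v, -, rfl⟩ := E.surj w hw
    rw [← E.add, show v + v = 0 from funext fun i => CharTwo.add_self_eq_zero (v i), E.zero]
  · rw [← card_even, ← Nat.card_eq_fintype_card]
    refine (Nat.card_congr (Equiv.ofBijective (fun v : {v : V6 // EvenV v} => (⟨f v, E.mem v⟩ : Cocode.K φ k)) ⟨fun a b h => ?_, fun w => ?_⟩)).symm
    · exact Subtype.ext (E.form_inj (σ := 1) (τ := 1) a.2 b.2 (by rw [show f a.1 = f b.1 from congrArg Subtype.val h])).1
    · obtain ⟨v, hv, e⟩ := E.surj _ w.2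
      exact ⟨⟨v, hv⟩, Subtype.ext e⟩
  · obtain ⟨v, σ, hv, rfl⟩ := E.exists_form hy
    have h1 : EvenV one6 := by decide +kernel
    show r * (f v * φ σ) = f v * φ σ * r
    have e : r = f one6 * φ 1 := by rw [map_one, mul_one, E.r_eq]
    rw [e, E.mul_form hv, E.mul_form h1, one_mul, mul_one]
    congr 2
    exact (add_comm _ _).trans (congrArg₂ (· + ·) rfl (funext fun i => rfl))
  · rw [show (23040 : ℕ) = 32 * 720 from rfl,
      ← show Nat.card ({v : V6 // EvenV v} × Perm (Fin 6)) = 32 * 720 by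
        rw [Nat.card_prod, Nat.card_eq_fintype_card, card_even, Nat.card_perm, Nat.card_eq_fintype_card,
          Fintype.card_fin]
        rfl]
    refine (Nat.card_congr (Equiv.ofBijective (fun p : {v : V6 // EvenV v} × Perm (Fin 6) =>
      (⟨f p.1.1 * φ p.2, E.form_mem _ _⟩ : Cocode.Y φ k)) ⟨fun a b h => ?_, fun y => ?_⟩)).symm
    · obtain ⟨h1, h2⟩ := E.form_inj a.1.2 b.1.2 (congrArg Subtype.val h)
      exact Prod.ext (Subtype.ext h1) h2
    · obtain ⟨v, σ, hv, e⟩ := E.exists_form y.2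
      exact ⟨(⟨v, hv⟩, σ), Subtype.ext e.symm⟩
  · obtain ⟨v, σ, -, rfl⟩ := E.exists_form hy
    exact ⟨f v, E.mem v, σ, rfl⟩
  · obtain ⟨v, hv, rfl⟩ := E.surj w hw
    obtain ⟨u, hu, rfl⟩ := E.surj w' hw'
    obtain ⟨rfl, rfl⟩ := E.form_inj hv hu h
    exact ⟨rfl, rfl⟩

/-- `Y` is the centralizer in `A12` of a fixed-point-free involution. -/
theorem Cocode.exists_iso (C : Cocode φ r k) :
    Nonempty (↥(Cocode.Y φ k) ≃* ↥(alternatingGroup (Fin 12) ⊓ centralizer
      ({(swap (0 : Fin 12) 1 * swap (2 : Fin 12) 3 * swap (4 : Fin 12) 5 * swap (6 : Fin 12) 7 *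
        swap (8 : Fin 12) 9 * swap (10 : Fin 12) 11)} : Set (Perm (Fin 12))))) := by
  classical
  obtain ⟨f, E⟩ := C.exists_code
  have hex : ∀ y : Cocode.Y φ k, ∃ p : V6 × Perm (Fin 6), EvenV p.1 ∧ (y : G) = f p.1 * φ p.2 := fun y => by
    obtain ⟨v, σ, hv, e⟩ := E.exists_form y.2
    exact ⟨(v, σ), hv, e⟩
  choose p hp he using hex
  let θ : Cocode.Y φ k →* Perm (Fin 12) := MonoidHom.mk' (fun y => toPerm (p y).1 (p y).2) fun a b => by
    have h := he (a * b)
    rw [Subgroup.coe_mul, he a, he b, E.mul_form (hp b)] at h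
    obtain ⟨h1, h2⟩ := E.form_inj (even_add _ _ (hp a) (even_comp (hp b) _)) (hp (a * b)) h
    rw [toPerm_mul, h1, h2]
  have hinj : Function.Injective θ := fun a b h => by
    obtain ⟨h1, h2⟩ := toPerm_inj (h : toPerm (p a).1 (p a).2 = toPerm (p b).1 (p b).2)
    exact Subtype.ext (by rw [he a, he b, h1, h2])
  have hrange : θ.range = alternatingGroup (Fin 12) ⊓ centralizer ({Pairs.alpha} : Set (Perm (Fin 12))) := by
    refine le_antisymm ?_ fun P hP => ?_
    · rintro _ ⟨y, rfl⟩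
      exact ⟨(toPerm_even _ _).2 (hp y), mem_centralizer_singleton_iff.2 (toPerm_commute _ _)⟩
    · obtain ⟨v, σ, rfl⟩ := exists_of_commute (mem_centralizer_singleton_iff.1 hP.2)
      have hv : EvenV v := (toPerm_even v σ).1 hP.1
      refine ⟨⟨f v * φ σ, E.form_mem v σ⟩, ?_⟩
      obtain ⟨h1, h2⟩ := E.form_inj hv (hp _) (he ⟨f v * φ σ, E.form_mem v σ⟩)
      show toPerm _ _ = _
      rw [← h1, ← h2]
  exact ⟨(MonoidHom.ofInjective hinj).trans (MulEquiv.subgroupCongr hrange)⟩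

/-- The classes in `K`. -/
theorem Cocode.K_cases (C : Cocode φ r k) : ∀ w ∈ Cocode.K φ k,
    ∃ y ∈ Cocode.Y φ k, y * w * y⁻¹ ∈ ({1, r, k, k * r} : Set G) := by
  obtain ⟨f, E⟩ := C.exists_code
  intro w hw
  obtain ⟨v, hv, rfl⟩ := E.surj w hw
  have hkr : f (ev 1 2 + one6) = k * r := by rw [E.add, E.k_eq, E.r_eq]
  have hY : ∀ σ, φ σ ∈ Cocode.Y φ k := fun σ => mem_sup_right ⟨σ, rfl⟩
  obtain ⟨a, b, h | h | h | h | h | h⟩ := vec_cases v hv
  iterate 4
    refine ⟨φ (bring a b), hY _, ?_⟩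
    rw [E.conj _ _ hv, h]
    first
    | exact Or.inl E.zero
    | exact Or.inr (Or.inl E.r_eq)
    | exact Or.inr (Or.inr (Or.inl E.k_eq))
    | exact Or.inr (Or.inr (Or.inr hkr))
  all_goals
    refine ⟨φ (bring a b)⁻¹, hY _, ?_⟩
    rw [E.conj _ _ hv, show v ∘ ((bring a b)⁻¹).symm = v ∘ bring a b from rfl, h]
    first
    | exact Or.inr (Or.inr (Or.inl E.k_eq))
    | exact Or.inr (Or.inr (Or.inr hkr))

/-- The classes of involutions outside `K`. -/
theorem Cocode.involution_cases (C : Cocode φ r k) : ∀ u ∈ Cocode.Y φ k, u * u = 1 →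
    u ∈ Cocode.K φ k ∨ ∃ y ∈ Cocode.Y φ k, y * u * y⁻¹ ∈
      ({φ (swap 1 2), φ (swap 1 2) * r, φ (swap 1 2) * (φ Six.flip6 * k * (φ Six.flip6)⁻¹),
        φ (swap 1 2 * swap 4 5), φ (swap 1 2 * swap 4 5) * r, φ Six.flip6, φ Six.flip6 * r} : Set G) := by
  obtain ⟨f, E⟩ := C.exists_code
  intro u hu hu2
  obtain ⟨v, σ, hv, rfl⟩ := E.exists_form hu
  have h0 : EvenV (0 : V6) := by simp [EvenV]
  rw [E.mul_form hv, show (1 : G) = f 0 * φ 1 by rw [E.zero, map_one, one_mul]] at hu2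
  obtain ⟨hfix, hσ⟩ := E.form_inj (even_add _ _ hv (even_comp hv σ)) h0 hu2
  by_cases h1 : σ = 1
  · exact Or.inl (by rw [h1, map_one, mul_one]; exact E.mem v)
  right
  obtain ⟨τ, hτ⟩ := inv_shape σ hσ h1
  set v' := v ∘ τ.symm with hv'def
  have hv' : EvenV v' := even_comp hv τ
  have hc0 := E.conj_form hv h0 σ τ
  rw [E.zero, one_mul, show (0 : V6) ∘ (τ * σ * τ⁻¹).symm = 0 from rfl, zero_add, add_zero] at hc0
  have hfix' : v' + v' ∘ (τ * σ * τ⁻¹).symm = 0 := funext fun i => by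
    have h := congrFun hfix (τ.symm i)
    simp only [Pi.add_apply, Function.comp_apply, Pi.zero_apply] at h ⊢
    rw [hv'def, Function.comp_apply, Function.comp_apply,
      show τ.symm ((τ * σ * τ⁻¹).symm i) = σ.symm (τ.symm i) by
        exact τ.symm_apply_apply _]
    exact h
  have hk2 : f (ev 4 5) = φ Six.flip6 * k * (φ Six.flip6)⁻¹ := by
    rw [← E.k_eq, E.conj _ _ (ev_even _ _), show ev 1 2 ∘ Six.flip6.symm = ev 4 5 by decide +kernel]
  have hfixed : ∀ ρ : Perm (Fin 6), ∀ e : V6, EvenV e → e ∘ ρ.symm = e → f e * φ ρ = φ ρ * f e := by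
    intro ρ e he h
    have := E.conj ρ e he
    rw [h, mul_inv_eq_iff_eq_mul] at this
    exact this.symm
  have hone : EvenV one6 := by decide +kernel
  have hfr : ∀ ρ : Perm (Fin 6), f one6 * φ ρ = φ ρ * r := fun ρ => by
    rw [hfixed ρ _ hone (funext fun i => rfl), E.r_eq]
  have hy : ∀ x : V6, ∀ τ' : Perm (Fin 6), f x * φ τ' * φ τ ∈ Cocode.Y φ k := fun x τ' =>
    mul_mem (E.form_mem x τ') (mem_sup_right ⟨τ, rfl⟩)
  have hmain : ∀ x : V6, EvenV x → ∀ τ' : Perm (Fin 6), f x * φ τ' * φ τ * (f v * φ σ) * (f x * φ τ' * φ τ)⁻¹ =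
      f (x + v' ∘ τ'.symm + x ∘ (τ' * (τ * σ * τ⁻¹) * τ'⁻¹).symm) * φ (τ' * (τ * σ * τ⁻¹) * τ'⁻¹) := by
    intro x hx τ'
    rw [← E.conj_form hv' hx, ← hc0]
    group
  obtain ⟨r1, r2, r3⟩ := inv_reduce v' hv'
  rcases hτ with h | h | h <;> rw [h] at hfix' hmain
  · obtain ⟨a, b, hcomm, x, hx, hred⟩ := r1 hfix'
    refine ⟨_, hy x (bring45 a b), ?_⟩
    rw [hmain x hx, hcomm, mul_inv_cancel_right]
    rcases hred with e | e | e <;> rw [e]
    · rw [E.zero, one_mul]; exact Or.inl rfl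
    · exact Or.inr (Or.inl (hfr _))
    · rw [hfixed _ _ (ev_even _ _) (by decide +kernel), hk2]; exact Or.inr (Or.inr (Or.inl rfl))
  all_goals
    obtain ⟨x, hx, hred⟩ := (by first | exact r2 hfix' | exact r3 hfix')
    refine ⟨_, hy x 1, ?_⟩
    rw [hmain x hx, one_mul, inv_one, mul_one, show v' ∘ (1 : Perm (Fin 6)).symm = v' from rfl]
    rcases hred with e | e <;> rw [e]
    · rw [E.zero, one_mul]; simp
    · rw [hfr]; simp

/-- Normal subgroups over `K`. -/
theorem Cocode.normal_cases (C : Cocode φ r k) : ∀ N : Subgroup G, N ≤ Cocode.Y φ k →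
    Cocode.Y φ k ≤ normalizer (N : Set G) → Cocode.K φ k ≤ N →
    N = Cocode.K φ k ∨ φ (swap 1 2 * swap 4 5) ∈ N := by
  obtain ⟨f, E⟩ := C.exists_code
  intro N hNY hn hKN
  have : (N.comap φ).Normal := ⟨fun x hx g =>
    mem_comap.2 (by
      rw [map_mul, map_mul, map_inv]
      exact (mem_normalizer_iff.1 (hn (mem_sup_right ⟨g, rfl⟩)) _).1 hx)⟩
  by_cases hbot : N.comap φ = ⊥
  · left
    refine le_antisymm (fun y hy => ?_) hKN
    obtain ⟨v, σ, -, rfl⟩ := E.exists_form (hNY hy)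
    have h1 : σ ∈ N.comap φ := mem_comap.2 ((mul_mem_cancel_left (hKN (E.mem v))).1 hy)
    rw [hbot, mem_bot] at h1
    rw [h1, map_one, mul_one]
    exact E.mem v
  · right
    exact Perm.alternatingGroup_le_of_normal (by simp) (Subgroup.nontrivial_iff_ne_bot _ |>.2 hbot)
      (Perm.mem_alternatingGroup.2 (by decide +kernel : Perm.sign (swap 1 2 * swap 4 5 : Perm (Fin 6)) = 1))

end Cfsg.Agent.PSpThreeReal
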