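import Cfsg.Agent.Lib.PSpThreeReal.Large.Classes

/-!
# The two axes centralized by the first sign

* `Side`: the labelled centralizer of one of the axes in the plane of the first sign
* `Big.side_two`, `Big.side_three`: the two sides
* `Side.part`: the four groups on the sides, `sig_of_sides`: they carry all invariant subgroups
* `Big.mul_sign_swap`, `Big.mul_sign_double`, `Big.mul_sign_triple`: classes with the sign of the axis
-/

set_option autoImplicit false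
set_option maxRecDepth 100000
set_option maxHeartbeats 1000000
set_option synthInstance.maxSize 8000
set_option synthInstance.maxHeartbeats 200000

namespace Cfsg.Agent.PSpThreeReal

open Cfsg Subgroup
open SymNineThree
open Six (c012 c345 flip6)
open ThreeCubedSymFour (V3)
open Equiv (Perm swap)

/-- The eight elements of `<(45)> x V4`. -/
def eight : Finset (Perm (Fin 6)) :=
  {1, swap 4 5, swap 0 1 * swap 2 3, swap 0 2 * swap 1 3, swap 0 3 * swap 1 2,
    swap 0 1 * swap 2 3 * swap 4 5, swap 0 2 * swap 1 3 * swap 4 5, swap 0 3 * swap 1 2 * swap 4 5}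

theorem eight_closed : (∀ a ∈ eight, ∀ b ∈ eight, a * b ∈ eight ∧ a * b = b * a ∧ a * a = 1) ∧
    eight.card = 8 := by decide +kernel

/-- `<(45)> x V4`. -/
def eightGrp : Subgroup (Perm (Fin 6)) where
  carrier := {σ | σ ∈ eight}
  one_mem' := by show _ ∈ eight; decide +kernel
  mul_mem' := fun {a b} ha hb => (eight_closed.1 a ha b hb).1
  inv_mem' := fun {a} ha => by
    show a⁻¹ ∈ eight
    rw [inv_eq_of_mul_eq_one_right (eight_closed.1 a ha a ha).2.2]
    exact ha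

theorem eight_invariant : ∀ σ : Perm (Fin 6), σ * swap 4 5 = swap 4 5 * σ →
    σ * σ * (σ * σ) = 1 →
    σ * (c012 * σ * c012⁻¹) * (σ * (c012 * σ * c012⁻¹)) *
      (σ * (c012 * σ * c012⁻¹) * (σ * (c012 * σ * c012⁻¹))) = 1 →
    σ * (c012⁻¹ * σ * c012) * (σ * (c012⁻¹ * σ * c012)) *
      (σ * (c012⁻¹ * σ * c012) * (σ * (c012⁻¹ * σ * c012))) = 1 →
    σ ∈ eight := by decide +kernel

theorem eight_axis : ∀ σ : Perm (Fin 6), σ * swap 4 5 = swap 4 5 * σ → σ * c012 = c012 * σ →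
    σ * σ * (σ * σ) = 1 → σ = 1 ∨ σ = swap 4 5 := by decide +kernel

theorem four_of_coprime : ∀ σ : Perm (Fin 6), σ * swap 4 5 = swap 4 5 * σ →
    σ * σ * (σ * σ) = 1 ∨ (σ * σ * σ * σ * σ * σ = 1 ∧ σ * σ ≠ 1) := by decide +kernel

universe u

variable {G : Type u} [Group G] {W : Subgroup Mon} {j : Multiplicative V3 →* G} {s : W →* G}
  {P : Pre G}

/-- The labelled centralizer of the axis `e` fixed by the sign `m`; `e'` is the other axis of the plane. -/
structure Side (W : Subgroup Mon) (j : Multiplicative V3 →* G) (s : W →* G) (φ : Perm (Fin 6) →* G)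
    (e e' : V3) (m m' : Mon) (ψ : Perm (Fin 6) →* G) : Prop where
  axes : (e = p2 ∧ e' = p3 ∧ m = eB ∧ m' = eC) ∨ (e = p3 ∧ e' = p2 ∧ m = eC ∧ m' = eB)
  comm : ∀ σ, Commute (ψ σ) (el j s e 1)
  decomp : ∀ g : G, Commute g (el j s e 1) → ∃ (i : ℕ) (σ : Perm (Fin 6)), g = el j s e 1 ^ i * ψ σ
  other : ψ c012 = el j s e' 1
  otherSign : ψ (swap 1 2) = el j s 0 m'
  sign : ψ (swap 4 5) = el j s 0 eA
  conj : ∃ g : G, (∀ σ, g * φ σ * g⁻¹ = ψ σ) ∧ g * el j s 0 eA * g⁻¹ = el j s 0 m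

/-- The labels of the second axis. -/
noncomputable def psi2 (j : Multiplicative V3 →* G) (s : W →* G) (φ : Perm (Fin 6) →* G) :
    Perm (Fin 6) →* G :=
  (MulAut.conj (el j s 0 rot)).toMonoidHom.comp φ

/-- The labels of the third axis. -/
noncomputable def psi3 (j : Multiplicative V3 →* G) (s : W →* G) (φ : Perm (Fin 6) →* G) :
    Perm (Fin 6) →* G :=
  (MulAut.conj (el j s 0 tau)).toMonoidHom.comp (psi2 j s φ)

theorem psi2_apply {φ : Perm (Fin 6) →* G} (σ : Perm (Fin 6)) :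
    psi2 j s φ σ = el j s 0 rot * φ σ * (el j s 0 rot)⁻¹ := rfl

theorem psi3_apply {φ : Perm (Fin 6) →* G} (σ : Perm (Fin 6)) :
    psi3 j s φ σ = el j s 0 tau * psi2 j s φ σ * (el j s 0 tau)⁻¹ := rfl

variable {φ : Perm (Fin 6) →* G}

theorem Real.conj_zero (E : Real W j s 3 P) (c m : Mon) :
    el j s 0 c * el j s 0 m * (el j s 0 c)⁻¹ = el j s 0 (c * m * c⁻¹) := by
  rw [mul_inv_eq_iff_eq_mul, E.el_zero_mul (E.mem' _) (E.mem' _), E.el_zero_mul (E.mem' _) (E.mem' _),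
    inv_mul_cancel_right]

theorem Real.transport (E : Real W j s 3 P) (c : Mon) {χ : Perm (Fin 6) →* G} {e : V3}
    (hcomm : ∀ σ, Commute (χ σ) (el j s e 1))
    (hdec : ∀ g : G, Commute g (el j s e 1) → ∃ (i : ℕ) (σ : Perm (Fin 6)), g = el j s e 1 ^ i * χ σ) :
    (∀ σ, Commute (el j s 0 c * χ σ * (el j s 0 c)⁻¹) (el j s (act c e) 1)) ∧
      ∀ g : G, Commute g (el j s (act c e) 1) →
        ∃ (i : ℕ) (σ : Perm (Fin 6)), g = el j s (act c e) 1 ^ i * (el j s 0 c * χ σ * (el j s 0 c)⁻¹) := by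
  set a := el j s 0 c
  have he : a * el j s e 1 * a⁻¹ = el j s (act c e) 1 := E.el_conj (E.mem' _) _ _
  rw [← he]
  refine ⟨fun σ => (hcomm σ).map (MulAut.conj a).toMonoidHom, fun g hg => ?_⟩
  have h : Commute (a⁻¹ * g * a) (el j s e 1) := by
    have := hg.map (MulAut.conj a⁻¹).toMonoidHom
    simpa [mul_assoc] using this
  obtain ⟨i, σ, h'⟩ := hdec _ h
  refine ⟨i, σ, ?_⟩
  rw [conj_pow, show a * el j s e 1 ^ i * a⁻¹ * (a * χ σ * a⁻¹) = a * (el j s e 1 ^ i * χ σ) * a⁻¹ by group,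
    ← h']
  group

theorem Big.side_two (E : Real W j s 3 P) (B : Big W j s φ) :
    Side W j s φ p2 p3 eB eC (psi2 j s φ) := by
  obtain ⟨h1, h2⟩ := E.transport rot B.comm B.decomp
  obtain ⟨k1, k2, k3, k4, k5⟩ : act rot p1 = p2 ∧ act rot p2 = p3 ∧ rot * eB * rot⁻¹ = eC ∧
      rot * eC * rot⁻¹ = eA ∧ rot * eA * rot⁻¹ = eB := by decide +kernel
  rw [k1] at h1 h2
  refine ⟨Or.inl ⟨rfl, rfl, rfl, rfl⟩, h1, h2, ?_, ?_, ?_, el j s 0 rot, fun σ => rfl, ?_⟩
  · rw [psi2_apply, B.e2, E.el_conj (E.mem' _), k2]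
  · rw [psi2_apply, B.rB, E.conj_zero, k3]
  · rw [psi2_apply, B.rC, E.conj_zero, k4]
  · rw [E.conj_zero, k5]

theorem Big.side_three (E : Real W j s 3 P) (B : Big W j s φ) :
    Side W j s φ p3 p2 eC eB (psi3 j s φ) := by
  obtain ⟨-, hc, hd, ho, hm, hs, g, hg, hg'⟩ := B.side_two E
  obtain ⟨h1, h2⟩ := E.transport tau hc hd
  obtain ⟨k1, k2, k3, k4, k5⟩ : act tau p2 = p3 ∧ act tau p3 = p2 ∧ tau * eC * tau⁻¹ = eB ∧
      tau * eA * tau⁻¹ = eA ∧ tau * eB * tau⁻¹ = eC := by decide +kernel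
  rw [k1] at h1 h2
  refine ⟨Or.inr ⟨rfl, rfl, rfl, rfl⟩, h1, h2, ?_, ?_, ?_, el j s 0 tau * g, fun σ => ?_, ?_⟩
  · rw [psi3_apply, ho, E.el_conj (E.mem' _), k2]
  · rw [psi3_apply, hm, E.conj_zero, k3]
  · rw [psi3_apply, hs, E.conj_zero, k4]
  · rw [psi3_apply, ← hg]; group
  · rw [show el j s 0 tau * g * el j s 0 eA * (el j s 0 tau * g)⁻¹ =
      el j s 0 tau * (g * el j s 0 eA * g⁻¹) * (el j s 0 tau)⁻¹ by group, hg', E.conj_zero, k5]

/-- The double. -/
def Dbl (W : Subgroup Mon) (j : Multiplicative V3 →* G) (s : W →* G) (x : G) : Prop :=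
  IsConj (el j s 0 eBC) x
/-- The transvection. -/
def Trv (W : Subgroup Mon) (j : Multiplicative V3 →* G) (s : W →* G) (x : G) : Prop :=
  IsConj (el j s 0 eA) x
/-- The central sign. -/
def Neg (W : Subgroup Mon) (j : Multiplicative V3 →* G) (s : W →* G) (x : G) : Prop :=
  IsConj (el j s 0 negOne) x

theorem Big.mul_sign_swap (E : Real W j s 3 P) (B : Big W j s φ) {a b : Fin 6} (h : a ≠ b) :
    Dbl W j s (φ (swap a b) * el j s 0 eA) := by
  obtain ⟨τ, hτ⟩ := isConj_iff.1 (Equiv.Perm.isConj_swap (by decide : (1 : Fin 6) ≠ 2) h)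
  have h1 : Dbl W j s (φ (swap 1 2) * el j s 0 eA) := by
    rw [B.rB, E.el_zero_mul (E.mem' _) (E.mem' _),
      show eB * eA = Mon.perm 2 false * eBC * (Mon.perm 2 false)⁻¹ by decide +kernel]
    exact E.isConj_perm 2 eBC
  refine h1.trans (isConj_iff.2 ⟨φ τ, ?_⟩)
  rw [← hτ, map_mul, map_mul, map_inv]
  calc φ τ * (φ (swap 1 2) * el j s 0 eA) * (φ τ)⁻¹
      = φ τ * φ (swap 1 2) * (el j s 0 eA * (φ τ)⁻¹) := by group
    _ = φ τ * φ (swap 1 2) * ((φ τ)⁻¹ * el j s 0 eA) := by rw [((B.rA τ).inv_left).eq]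
    _ = _ := by group

theorem Big.mul_sign_double (E : Real W j s 3 P) (B : Big W j s φ) {σ : Perm (Fin 6)}
    (h : IsConj (swap 1 2 * swap 4 5) σ) : Neg W j s (φ σ * el j s 0 eA) := by
  obtain ⟨τ, rfl⟩ := isConj_iff.1 h
  refine isConj_iff.2 ⟨φ τ, ?_⟩
  rw [map_mul φ _ τ⁻¹, map_mul φ τ, map_inv,
    show negOne = eBC * eA by decide +kernel, ← E.el_zero_mul (E.mem' _) (E.mem' _), ← B.double E]
  calc φ τ * (φ (swap 1 2 * swap 4 5) * el j s 0 eA) * (φ τ)⁻¹
      = φ τ * φ (swap 1 2 * swap 4 5) * (el j s 0 eA * (φ τ)⁻¹) := by group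
    _ = φ τ * φ (swap 1 2 * swap 4 5) * ((φ τ)⁻¹ * el j s 0 eA) := by rw [((B.rA τ).inv_left).eq]
    _ = _ := by group

theorem Big.mul_sign_triple [Finite G] (E : Real W j s 3 P) (B : Big W j s φ) {σ : Perm (Fin 6)}
    (h : IsConj flip6 σ) : Neg W j s (φ σ * el j s 0 eA) := by
  obtain ⟨τ, rfl⟩ := isConj_iff.1 h
  have h1 : IsConj (el j s 0 (negOne * tau)) (φ flip6 * el j s 0 eA) := by
    rw [B.t, E.el_zero_mul (E.mem' _) (E.mem' _)]
    refine isConj_iff.2 ⟨el j s 0 eB, ?_⟩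
    rw [E.conj_zero, show eB * (negOne * tau) * eB⁻¹ = tau * eA by decide +kernel]
  refine (E.negOne_conj.trans h1).trans (isConj_iff.2 ⟨φ τ, ?_⟩)
  rw [map_mul φ _ τ⁻¹, map_mul φ τ, map_inv]
  calc φ τ * (φ flip6 * el j s 0 eA) * (φ τ)⁻¹
      = φ τ * φ flip6 * (el j s 0 eA * (φ τ)⁻¹) := by group
    _ = φ τ * φ flip6 * ((φ τ)⁻¹ * el j s 0 eA) := by rw [((B.rA τ).inv_left).eq]
    _ = _ := by group

section

variable {e e' : V3} {m m' : Mon} {ψ : Perm (Fin 6) →* G}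

theorem Side.sign_comm (B : Big W j s φ) (S : Side W j s φ e e' m m' ψ) (σ : Perm (Fin 6)) :
    Commute (ψ σ) (el j s 0 m) := by
  obtain ⟨g, hg, hg'⟩ := S.conj
  rw [← hg, ← hg']
  exact (B.rA σ).map (MulAut.conj g).toMonoidHom

theorem Side.inj (B : Big W j s φ) (S : Side W j s φ e e' m m' ψ) : Function.Injective ψ := by
  obtain ⟨g, hg, -⟩ := S.conj
  intro a b h
  rw [← hg, ← hg] at h
  exact B.inj (mul_left_cancel (mul_right_cancel h))

theorem Side.isConj_phi (S : Side W j s φ e e' m m' ψ) (σ : Perm (Fin 6)) :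
    IsConj (φ σ) (ψ σ) ∧ IsConj (φ σ * el j s 0 eA) (ψ σ * el j s 0 m) := by
  obtain ⟨g, hg, hg'⟩ := S.conj
  refine ⟨isConj_iff.2 ⟨g, hg σ⟩, isConj_iff.2 ⟨g, ?_⟩⟩
  rw [← hg σ, ← hg']
  group

/-- The abelian subgroup of order eight on a side. -/
def Side.part (_S : Side W j s φ e e' m m' ψ) : Subgroup G := eightGrp.map ψ

theorem Side.mem_part (S : Side W j s φ e e' m m' ψ) {g : G} :
    g ∈ S.part ↔ ∃ σ ∈ eight, ψ σ = g := Iff.rfl

theorem Side.part_sq (S : Side W j s φ e e' m m' ψ) {g h : G} (hg : g ∈ S.part) (hh : h ∈ S.part) :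
    g * h = h * g ∧ g * g = 1 := by
  obtain ⟨σ, hσ, rfl⟩ := hg
  obtain ⟨τ, hτ, rfl⟩ := hh
  obtain ⟨-, h1, h2⟩ := eight_closed.1 σ hσ τ hτ
  rw [← map_mul, ← map_mul, ← map_mul, h1, h2, map_one]
  exact ⟨rfl, rfl⟩

theorem Side.card_part (B : Big W j s φ) (S : Side W j s φ e e' m m' ψ) : Nat.card S.part = 8 := by
  rw [Side.part, card_map_of_injective (S.inj B), ← eight_closed.2, ← Nat.card_eq_finsetCard]
  exact Nat.card_congr (Equiv.subtypeEquivRight fun _ => Iff.rfl)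

theorem Side.sign_mem_part (S : Side W j s φ e e' m m' ψ) : el j s 0 eA ∈ S.part :=
  ⟨swap 4 5, (by show _ ∈ eight; decide +kernel), S.sign⟩

theorem Side.cent_sign (B : Big W j s φ) (S : Side W j s φ e e' m m' ψ) {g : G}
    (he : Commute g (el j s e 1)) (hr : Commute g (el j s 0 eA)) :
    ∃ (i : ℕ) (σ : Perm (Fin 6)), g = el j s e 1 ^ i * ψ σ ∧ σ * swap 4 5 = swap 4 5 * σ := by
  obtain ⟨i, σ, rfl⟩ := S.decomp g he
  refine ⟨i, σ, rfl, S.inj B ?_⟩
  have h1 : Commute (el j s e 1 ^ i) (el j s 0 eA) := S.sign ▸ ((S.comm _).symm.pow_left i)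
  have h2 := h1.inv_left.mul_left hr
  rw [inv_mul_cancel_left] at h2
  rw [map_mul, map_mul, S.sign]
  exact h2.eq

theorem Side.axis_facts (S : Side W j s φ e e' m m' ψ) :
    e ≠ 0 ∧ act eA e = e ∧ act eA e' = e' ∧ act m e = -e ∧ act m e' = e' ∧ e.1 = 0 ∧ e'.1 = 0 ∧
      act m' e = e ∧ m * m = 1 ∧ eA * m = m * eA := by
  rcases S.axes with ⟨rfl, rfl, rfl, rfl⟩ | ⟨rfl, rfl, rfl, rfl⟩ <;> decide +kernel

/-- A coprime element commuting with the axis and the sign lies on the labelled factor. -/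
theorem Side.coprime_form [Finite G] (E : Real W j s 3 P) (B : Big W j s φ)
    (S : Side W j s φ e e' m m' ψ) {g : G} (he : Commute g (el j s e 1)) (hr : Commute g (el j s 0 eA))
    (h3 : (orderOf g).Coprime 3) :
    ∃ σ, g = ψ σ ∧ σ * swap 4 5 = swap 4 5 * σ ∧ σ * σ * (σ * σ) = 1 := by
  obtain ⟨i, σ, rfl, hσ⟩ := S.cent_sign B he hr
  set a := el j s e 1
  have ha : a ^ 3 = 1 := E.space_cube (el_mem_range e)
  set N := orderOf (a ^ i * ψ σ)
  have hN : (a ^ i) ^ N * ψ σ ^ N = 1 := by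
    rw [← ((S.comm σ).symm.pow_left i).mul_pow, pow_orderOf_eq_one]
  -- the part on the axis is a power of the factor, so it is central there
  have hcent : ∀ τ, σ ^ N * τ = τ * σ ^ N := fun τ => S.inj B (by
    rw [map_mul, map_mul, map_pow, eq_inv_of_mul_eq_one_right hN]
    exact ((((S.comm τ).symm.pow_left i).pow_left N).inv_left).eq)
  have hσN : σ ^ N = 1 := (by decide +kernel : ∀ σ : Perm (Fin 6), σ * swap 0 1 = swap 0 1 * σ →
    σ * swap 1 2 = swap 1 2 * σ → σ * swap 3 4 = swap 3 4 * σ → σ * swap 2 3 = swap 2 3 * σ →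
    σ = 1) _ (hcent _) (hcent _) (hcent _) (hcent _)
  have hai : a ^ i = 1 := by
    have h1 : (a ^ i) ^ N = 1 := by rw [← map_pow, hσN, map_one, mul_one] at hN; exact hN
    have h2 : (a ^ i) ^ 3 = 1 := by rw [← pow_mul, mul_comm, pow_mul, ha, one_pow]
    have h := pow_gcd_eq_one.2 ⟨h1, h2⟩
    rwa [h3, pow_one] at h
  refine ⟨σ, by rw [hai, one_mul], hσ, (four_of_coprime σ hσ).resolve_right fun ⟨h6, h2⟩ => h2 ?_⟩
  have h2' : (σ ^ 2) ^ 3 = 1 := by rw [← pow_mul]; simpa [pow_succ] using h6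
  have h1' : (σ ^ 2) ^ N = 1 := by rw [← pow_mul, mul_comm, pow_mul, hσN, one_pow]
  have h := pow_gcd_eq_one.2 ⟨h1', h2'⟩
  rwa [h3, pow_one, pow_two] at h

variable [Finite G]

/-- Invariant subgroups of order prime to three meet the centralizer of the axis in the part. -/
theorem Side.mem_part_of_invariant (E : Real W j s 3 P) (B : Big W j s φ)
    (S : Side W j s φ e e' m m' ψ) {K : Subgroup G} (hK : K ≤ centralizer ({el j s 0 eA} : Set G))
    (hn : el j s e' 1 ∈ normalizer (K : Set G)) (h3 : (Nat.card K).Coprime 3) {g : G} (hg : g ∈ K)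
    (he : Commute g (el j s e 1)) : g ∈ S.part := by
  have form : ∀ x ∈ K, Commute x (el j s e 1) →
      ∃ σ, x = ψ σ ∧ σ * swap 4 5 = swap 4 5 * σ ∧ σ * σ * (σ * σ) = 1 := fun x hx hxe =>
    S.coprime_form E B hxe (mem_centralizer_singleton_iff.1 (hK hx))
      (Nat.Coprime.coprime_dvd_left (Subgroup.orderOf_dvd_natCard K hx) h3)
  obtain ⟨σ, rfl, hσ, h4⟩ := form g hg he
  refine ⟨σ, eight_invariant σ hσ h4 ?_ ?_, rfl⟩
  · have h1 : ψ (σ * (c012 * σ * c012⁻¹)) ∈ K := by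
      rw [map_mul, map_mul, map_mul, map_inv, S.other]
      exact mul_mem hg ((mem_normalizer_iff.1 hn _).1 hg)
    obtain ⟨τ, hτ, -, hτ4⟩ := form _ h1 (S.comm _)
    rwa [S.inj B hτ]
  · have h1 : ψ (σ * (c012⁻¹ * σ * c012)) ∈ K := by
      rw [map_mul, map_mul, map_mul, map_inv, S.other]
      have h := (mem_normalizer_iff.1 (inv_mem hn) _).1 hg
      rw [inv_inv] at h
      exact mul_mem hg h
    obtain ⟨τ, hτ, -, hτ4⟩ := form _ h1 (S.comm _)
    rwa [S.inj B hτ]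

end

theorem Real.plane_noncyclic (E : Real W j s 3 P) [Finite G] :
    ¬ IsCyclic (planeSub j (fixMap eA)) := fun hc => by
  obtain ⟨g, hg⟩ := hc.exists_generator
  have h1 := orderOf_eq_card_of_forall_mem_zpowers hg
  rw [E.card_planeSub, show (Finset.univ.filter fun u : V3 => fixMap eA u = 0).card = 9 by
    rw [Finset.filter_congr fun u _ => fixMap_eq_zero]; decide +kernel] at h1
  have h2 : g ^ 3 = 1 := Subtype.ext (by simpa using E.space_cube (planeSub_le _ g.2))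
  have h3 := orderOf_dvd_of_pow_eq_one h2
  rw [h1] at h3
  norm_num at h3

/-- The invariant subgroups of the centralizer of the sign come from the two parts. -/
theorem Big.sig_of_sides [Finite G] (E : Real W j s 3 P) (B : Big W j s φ) {C Ω : Subgroup G}
    (hC : C ≤ centralizer ({el j s 0 eA} : Set G)) (hr : el j s 0 eA ∈ Ω)
    (h2 : C ⊓ (B.side_two E).part ≤ Ω) (h3 : C ⊓ (B.side_three E).part ≤ Ω) :
    Sig (planeSub j (fixMap eA)) C Ω := by
  set A := planeSub j (fixMap eA)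
  have hcomm : IsMulCommutative A := ⟨⟨fun a b => Subtype.ext (congrArg Subtype.val
    (E.space_comm.is_comm.comm ⟨a, planeSub_le _ a.2⟩ ⟨b, planeSub_le _ b.2⟩) :)⟩⟩
  refine sig_of_points (E.space_isPGroup.to_le (planeSub_le _)) hcomm E.plane_noncyclic
    fun a ha ha1 K hK hn hcop => ?_
  rintro g ⟨hg, hga⟩
  obtain ⟨v, hv, rfl⟩ := E.exists_planeSub ha
  replace hv : v.1 = 0 := (E.mem_plane23).1 ha
  replace hga : Commute g (el j s v 1) := mem_centralizer_singleton_iff.1 hga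
  have hn2 := hn ((E.mem_plane23 (u := p2)).2 rfl)
  have hn3 := hn ((E.mem_plane23 (u := p3)).2 rfl)
  have hKr := hK.trans hC
  have hneg : ∀ w : V3, Commute g (el j s (-w) 1) → Commute g (el j s w 1) := fun w h => by
    rwa [show el j s (-w) 1 = (el j s w 1)⁻¹ by rw [E.el_inv (one_mem W), inv_one, act_one],
      Commute.inv_right_iff] at h
  rcases (by decide +kernel : ∀ v : V3, v.1 = 0 → v = 0 ∨ v = p2 ∨ v = -p2 ∨ v = p3 ∨ v = -p3 ∨ Two v)
    v hv with rfl | rfl | rfl | rfl | rfl | hT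
  · exact absurd el_zero_one ha1
  · exact h2 ⟨hK hg, (B.side_two E).mem_part_of_invariant E B hKr hn3 hcop hg hga⟩
  · exact h2 ⟨hK hg, (B.side_two E).mem_part_of_invariant E B hKr hn3 hcop hg (hneg _ hga)⟩
  · exact h3 ⟨hK hg, (B.side_three E).mem_part_of_invariant E B hKr hn2 hcop hg hga⟩
  · exact h3 ⟨hK hg, (B.side_three E).mem_part_of_invariant E B hKr hn2 hcop hg (hneg _ hga)⟩
  -- a point off the axes: `g` commutes with the plane
  have hgN : g ∈ normalizer (j.range : Set G) := E.cent_two hT (mem_centralizer_singleton_iff.2 hga.eq)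
  have hall : ∀ p ∈ A, Commute g p := by
    intro p hp
    have e1 : g * p * g⁻¹ * p⁻¹ ∈ j.range :=
      mul_mem ((mem_normalizer_iff.1 hgN p).1 (planeSub_le _ hp)) (inv_mem (planeSub_le _ hp))
    have e2 : g * p * g⁻¹ * p⁻¹ ∈ K := by
      have := mul_mem hg ((mem_normalizer_iff.1 (hn hp) g⁻¹).1 (inv_mem hg))
      simpa [mul_assoc] using this
    have hd1 : orderOf (g * p * g⁻¹ * p⁻¹) ∣ 3 := orderOf_dvd_of_pow_eq_one (E.space_cube e1)
    have e : g * p * g⁻¹ * p⁻¹ = 1 := orderOf_eq_one_iff.1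
      (Nat.eq_one_of_dvd_coprimes hcop.symm hd1 (Subgroup.orderOf_dvd_natCard K e2))
    exact mul_inv_eq_iff_eq_mul.1 (mul_inv_eq_one.1 e)
  obtain ⟨σ, rfl, hσ, h4⟩ := (B.side_two E).coprime_form E B (hall _ (E.mem_plane23.2 rfl))
    (mem_centralizer_singleton_iff.1 (hKr hg))
    (Nat.Coprime.coprime_dvd_left (Subgroup.orderOf_dvd_natCard K hg) hcop)
  have h' : σ * c012 = c012 * σ := (B.side_two E).inj B (by
    rw [map_mul, map_mul, (B.side_two E).other]
    exact (hall _ (E.mem_plane23.2 rfl)).eq)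
  rcases eight_axis σ hσ h' h4 with rfl | rfl
  · rw [map_one]; exact one_mem _
  · rw [(B.side_two E).sign]; exact hr

end Cfsg.Agent.PSpThreeReal
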